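import Cfsg.Agent.EqLemmas
import Cfsg.Agent.Lib.Goldschmidt.ThreeInv.Targets
import Cfsg.Agent.Lib.Goldschmidt.ThreeInv.SylowFacts
import Cfsg.Agent.Lib.Goldschmidt.ThreeInv.CentShape
import Cfsg.Agent.Lib.GWKlein.Local
import Cfsg.Agent.Lib.Involution.StronglyEmbedded
import Cfsg.Agent.Lib.Involution.KleinFour
import Cfsg.Agent.Lib.Coprime.Invariant
import Cfsg.Agent.Lib.Coprime.Factorization
import Cfsg.Agent.Lib.Coprime.Generation
import Cfsg.Agent.Lib.PLocal.Grows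

/-!
# Three involutions, section 1: maximal invariant `p`-subgroups (owner: helper87)

* `OddLocal` : the facts of item (L) used in section 1
* `InvP`, `MaxP` : `S`-invariant `p`-subgroups and the maximal ones
* `exists_conj_of_meet` : two maximal ones meeting non-trivially are conjugate under `C(S)`
* `exists_conj_of_fixed` : so are two maximal ones meeting the same `C(a)`
* `exists_split` : an element of an odd group is a product of a fixed and an inverted one
* `se_of_fused` : a proper subgroup over `C(a)` fusing `A` is strongly embedded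
-/

set_option autoImplicit false
set_option linter.style.haveILetI false
set_option linter.unusedSectionVars false

namespace Cfsg.Agent.Goldschmidt.ThreeInv.Primes

open Subgroup GWKlein
open scoped Pointwise

universe u

variable {G : Type u} [Group G]

/-- The facts of item (L) used in section 1. -/
structure OddLocal (S : Sylow 2 G) (A : Subgroup G) : Prop where
  setting : Setting S A
  simple : IsSimpleGroup G
  odd_le : ∀ M Q D : Subgroup G, M ≠ ⊤ → IsPGroup 2 ↥Q → A ≤ Q → Q ≤ M → ¬ Q ≤ A → D ≤ M →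
    Odd (Nat.card ↥D) → Q ≤ normalizer (D : Set G) → D ≤ oddPart M
  cent_solvable : ∀ a ∈ A, a ≠ 1 → Group.IsSolvable ↥(centralizer ({a} : Set G))
  rank_one : ∀ H : Subgroup G, (∀ x ∈ H, ∀ y ∈ H, x * x = 1 → y * y = 1 → x ≠ 1 → y ≠ 1 →
    x * y = y * x → x = y) → Group.IsSolvable ↥H

/-- `S`-invariant `p`-subgroups. -/
def InvP (S : Sylow 2 G) (p : ℕ) (P : Subgroup G) : Prop :=
  IsPGroup p ↥P ∧ (S : Subgroup G) ≤ normalizer (P : Set G)

/-- Maximal `S`-invariant `p`-subgroups. -/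
def MaxP (S : Sylow 2 G) (p : ℕ) (X : Subgroup G) : Prop := Maximal (InvP S p) X

theorem conj_smul_mem {g x : G} {X : Subgroup G} (hx : x ∈ X) : g * x * g⁻¹ ∈ MulAut.conj g • X := by
  rw [Coprime.mem_conj, show g⁻¹ * (g * x * g⁻¹) * g = x by group]
  exact hx

theorem conj_smul_cancel (g : G) (X : Subgroup G) : MulAut.conj g⁻¹ • (MulAut.conj g • X) = X := by
  rw [← mul_smul, ← map_mul, inv_mul_cancel, map_one, one_smul]

theorem isPGroup_conj {p : ℕ} {X : Subgroup G} (hX : IsPGroup p ↥X) (g : G) :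
    IsPGroup p ↥(MulAut.conj g • X) :=
  hX.map (MulAut.conj g).toMonoidHom

theorem le_normalizer_conj {T X : Subgroup G} {g : G} (hg : ∀ t ∈ T, g⁻¹ * t * g ∈ T)
    (hX : T ≤ normalizer (X : Set G)) : T ≤ normalizer ((MulAut.conj g • X : Subgroup G) : Set G) := by
  refine Signalizer.le_normalizer_of_conj_mem fun t ht x hx => ?_
  rw [Coprime.mem_conj] at hx ⊢
  rw [show g⁻¹ * (t * x * t⁻¹) * g = g⁻¹ * t * g * (g⁻¹ * x * g) * (g⁻¹ * t * g)⁻¹ by group]
  exact (mem_normalizer_iff.1 (hX (hg t ht)) _).1 hx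

theorem conj_eq_self_of_commute {g x : G} (h : g * x = x * g) : g * x * g⁻¹ = x := by
  rw [h, mul_inv_cancel_right]

section Finite

variable [Finite G] {S : Sylow 2 G} {A : Subgroup G} {p : ℕ}

theorem exists_maxP_ge {P : Subgroup G} (hP : InvP S p P) : ∃ X, MaxP S p X ∧ P ≤ X := by
  obtain ⟨X, hPX, hX⟩ := (Set.toFinite {P : Subgroup G | InvP S p P}).exists_le_maximal (show P ∈ _ from hP)
  exact ⟨X, hX, hPX⟩

theorem InvP.conj_normalizer {P : Subgroup G} (hP : InvP S p P) {n : G}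
    (hn : n ∈ normalizer ((S : Subgroup G) : Set G)) : InvP S p (MulAut.conj n • P) :=
  ⟨isPGroup_conj hP.1 n, le_normalizer_conj (fun t ht => by
    simpa using (mem_normalizer_iff.1 (inv_mem hn) t).1 ht) hP.2⟩

theorem MaxP.conj_normalizer {X : Subgroup G} (hX : MaxP S p X) {n : G}
    (hn : n ∈ normalizer ((S : Subgroup G) : Set G)) : MaxP S p (MulAut.conj n • X) := by
  refine ⟨hX.1.conj_normalizer hn, fun Y hY hXY => ?_⟩
  have h1 := hX.2 (hY.conj_normalizer (inv_mem hn))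
    (conj_smul_cancel n X ▸ Subgroup.pointwise_smul_le_pointwise_smul_iff.2 hXY)
  have h2 := (Subgroup.pointwise_smul_le_pointwise_smul_iff (a := MulAut.conj n)).2 h1
  rwa [← mul_smul, ← map_mul, mul_inv_cancel, map_one, one_smul] at h2

theorem odd_card_of_isPGroup (hp : p.Prime) (hp2 : p ≠ 2) {P : Subgroup G} (hP : IsPGroup p ↥P) :
    Odd (Nat.card ↥P) := by
  haveI := Fact.mk hp
  obtain ⟨k, hk⟩ := hP.exists_card_eq
  rw [hk]
  exact (hp.odd_of_ne_two hp2).pow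

theorem coprime_sylow_two {K : Subgroup G} (hK : Odd (Nat.card ↥K)) :
    (Nat.card ↥(S : Subgroup G)).Coprime (Nat.card ↥K) := by
  haveI : Fact (Nat.Prime 2) := ⟨Nat.prime_two⟩
  rw [S.card_eq_multiplicity]
  exact Nat.Coprime.pow_left _ (Nat.coprime_two_left.2 hK)

theorem isSolvable_sylow_two (S : Sylow 2 G) : Group.IsSolvable ↥(S : Subgroup G) :=
  haveI : Fact (Nat.Prime 2) := ⟨Nat.prime_two⟩
  Coprime.isSolvable_of_isPGroup S.2

/-- An element of an odd group is a fixed element times an inverted one. -/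
theorem exists_split {P : Subgroup G} (hP : Odd (Nat.card ↥P)) {v : G} (hv : v * v = 1)
    (hn : ∀ x ∈ P, v * x * v⁻¹ ∈ P) {x : G} (hx : x ∈ P) :
    ∃ c ∈ P, ∃ e ∈ P, v * c * v⁻¹ = c ∧ v * e * v⁻¹ = e⁻¹ ∧ x = c * e ∧
      ∃ k : ℕ, e = (x⁻¹ * (v * x * v⁻¹)) ^ k := by
  set d := x⁻¹ * (v * x * v⁻¹) with hd
  have hvv : v⁻¹ = v := inv_eq_of_mul_eq_one_right hv
  have hdP : d ∈ P := mul_mem (inv_mem hx) (hn x hx)
  have hdinv : v * d * v⁻¹ = d⁻¹ := by
    rw [hd, hvv]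
    calc v * (x⁻¹ * (v * x * v)) * v = v * x⁻¹ * v * x * (v * v) := by group
      _ = v * x⁻¹ * v⁻¹ * x := by rw [hv, mul_one, hvv]
      _ = (x⁻¹ * (v * x * v⁻¹))⁻¹ := by group
      _ = _ := by rw [hvv]
  obtain ⟨n, hn'⟩ := hP.of_dvd_nat (orderOf_dvd_natCard P hdP)
  set e := d ^ n with he
  have hee : e * e * d = 1 := by
    rw [he, ← pow_add, ← pow_succ, show n + n + 1 = orderOf d by omega, pow_orderOf_eq_one]
  have hve : v * e * v⁻¹ = e⁻¹ := by rw [he, ← conj_pow, hdinv, inv_pow]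
  refine ⟨x * e⁻¹, mul_mem hx (inv_mem (pow_mem hdP n)), e, pow_mem hdP n, ?_, hve,
    (inv_mul_cancel_right x e).symm, n, rfl⟩
  have hxv : v * x * v⁻¹ = x * d := by rw [hd, mul_inv_cancel_left]
  calc v * (x * e⁻¹) * v⁻¹ = (v * x * v⁻¹) * (v * e * v⁻¹)⁻¹ := by group
    _ = x * e⁻¹ * (e * d * e) := by rw [hxv, hve, inv_inv]; group
    _ = x * e⁻¹ := by
      have h2 : Commute e d := (Commute.refl d).pow_left n
      rw [mul_assoc e d e, ← h2.eq, ← mul_assoc e e d, hee, mul_one]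

variable (L : OddLocal S A)
include L

theorem A_le_S : A ≤ (S : Subgroup G) := L.setting.le

theorem exists_ne_one : ∃ a ∈ A, a ≠ 1 := by
  by_contra hno
  push Not at hno
  have := L.setting.card
  rw [(Subgroup.eq_bot_iff_forall A).2 hno, Subgroup.card_bot] at this
  omega

theorem not_sylow_le : ¬ (S : Subgroup G) ≤ A := fun hle => L.setting.nonab
  ⟨⟨fun x y => Subtype.ext (L.setting.commute (hle x.2) y.2)⟩⟩

theorem S_le_cent {a : G} (ha : a ∈ A) : (S : Subgroup G) ≤ centralizer ({a} : Set G) :=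
  fun _ hs => mem_centralizer_singleton_iff.2 (L.setting.commute ha hs).symm

theorem A_le_cent {a : G} (ha : a ∈ A) : A ≤ centralizer ({a} : Set G) :=
  (A_le_S L).trans (S_le_cent L ha)

theorem center_eq_bot : Subgroup.center G = ⊥ := by
  haveI := L.simple
  exact (inferInstance : (Subgroup.center G).Normal).eq_bot_or_eq_top.resolve_right fun e =>
    L.setting.not_comm ⟨⟨fun x y => Subgroup.mem_center_iff.1 (e ▸ mem_top y) x⟩⟩

theorem centralizer_ne_top {x : G} (hx : x ≠ 1) : centralizer ({x} : Set G) ≠ ⊤ := fun e => hx (by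
  rw [← mem_bot (G := G), ← center_eq_bot L]
  exact mem_center_iff.2 fun g => mem_centralizer_singleton_iff.1 (e ▸ mem_top g))

theorem four_dvd_card : 4 ∣ Nat.card G := L.setting.card ▸ Subgroup.card_subgroup_dvd_card A

theorem normalizer_ne_top (hp : p.Prime) (hp2 : p ≠ 2) {D : Subgroup G} (hD : IsPGroup p ↥D)
    (hne : D ≠ ⊥) : normalizer (D : Set G) ≠ ⊤ := by
  intro e
  haveI := L.simple
  rcases (normalizer_eq_top_iff.1 e).eq_bot_or_eq_top with h | h
  · exact hne h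
  · have h1 := odd_card_of_isPGroup hp hp2 hD
    rw [h, card_top] at h1
    exact Nat.not_even_iff_odd.2 h1 (even_iff_two_dvd.2 ((by norm_num : 2 ∣ 4).trans (four_dvd_card L)))

theorem odd_le_sylow {M D : Subgroup G} (hM : M ≠ ⊤) (hSM : (S : Subgroup G) ≤ M) (hDM : D ≤ M)
    (hD : Odd (Nat.card ↥D)) (hn : (S : Subgroup G) ≤ normalizer (D : Set G)) : D ≤ oddPart M :=
  L.odd_le M S D hM S.2 (A_le_S L) hSM (not_sylow_le L) hDM hD hn

/-- An invariant odd subgroup of `C(a)` lies in the core. -/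
theorem le_core {a : G} (ha : a ∈ A) (ha1 : a ≠ 1) {D : Subgroup G}
    (hD : D ≤ centralizer ({a} : Set G)) (hodd : Odd (Nat.card ↥D))
    (hn : (S : Subgroup G) ≤ normalizer (D : Set G)) : D ≤ oddPart (centralizer ({a} : Set G)) :=
  odd_le_sylow L (centralizer_ne_top L ha1) (S_le_cent L ha) hD hodd hn

theorem S_le_normalizer_cent {a : G} (ha : a ∈ A) :
    (S : Subgroup G) ≤ normalizer (centralizer ({a} : Set G) : Set G) :=
  (S_le_cent L ha).trans le_normalizer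

theorem invP_inf_cent {X : Subgroup G} (hX : InvP S p X) {a : G} (ha : a ∈ A) :
    InvP S p (X ⊓ centralizer ({a} : Set G)) :=
  ⟨hX.1.to_le inf_le_left, Signalizer.le_normalizer_inf hX.2 (S_le_normalizer_cent L ha)⟩

/-- Two invariant `p`-subgroups of the core of a subgroup over `S` go into one invariant `p`-subgroup. -/
theorem exists_common (hp : p.Prime) {M P R : Subgroup G} (hSM : (S : Subgroup G) ≤ M)
    (hP : InvP S p P) (hPM : P ≤ oddPart M) (hR : InvP S p R) (hRM : R ≤ oddPart M) :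
    ∃ c ∈ oddPart M, c ∈ centralizer ((S : Subgroup G) : Set G) ∧
      ∃ Z : Subgroup G, InvP S p Z ∧ R ≤ Z ∧ MulAut.conj c • P ≤ Z ∧ Z ≤ oddPart M := by
  haveI := Fact.mk hp
  set K := oddPart M
  have hSK : (S : Subgroup G) ≤ normalizer (K : Set G) := hSM.trans (le_normalizer_oddPart M)
  have hcop := coprime_sylow_two (S := S) (odd_card_oddPart M)
  have hsolv : Group.IsSolvable ↥(S : Subgroup G) ∨ Group.IsSolvable ↥K := Or.inl (isSolvable_sylow_two S)
  obtain ⟨P', hPP', hP'K, hP'n, hP'c⟩ :=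
    Coprime.exists_invariant_card hSK hcop hsolv p hPM hP.1 hP.2
  obtain ⟨R', hRR', hR'K, hR'n, hR'c⟩ :=
    Coprime.exists_invariant_card hSK hcop hsolv p hRM hR.1 hR.2
  obtain ⟨c, hc, hcP⟩ := Coprime.exists_mem_centralizer_conj_of_card hSK hcop hsolv hR'K hP'K hR'n hP'n
    hR'c hP'c
  exact ⟨c, hc.1, hc.2, R', ⟨Coprime.isPGroup_of_card hR'c, hR'n⟩, hRR',
    hcP ▸ Subgroup.pointwise_smul_le_pointwise_smul_iff.2 hPP', hR'K⟩

theorem cent_S_le_cent_A : centralizer ((S : Subgroup G) : Set G) ≤ centralizer (A : Set G) :=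
  centralizer_le (A_le_S L)

/-- Maximal invariant `p`-subgroups meeting non-trivially are conjugate. -/
theorem exists_conj_of_meet (hp : p.Prime) (hp2 : p ≠ 2) {X Y : Subgroup G} (hX : MaxP S p X)
    (hY : MaxP S p Y) (hne : X ⊓ Y ≠ ⊥) :
    ∃ c ∈ centralizer ((S : Subgroup G) : Set G), MulAut.conj c • X = Y := by
  haveI := Fact.mk hp
  obtain ⟨n, hn⟩ : ∃ n, n = Nat.card G - Nat.card ↥(X ⊓ Y : Subgroup G) := ⟨_, rfl⟩
  induction n using Nat.strong_induction_on generalizing X Y with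
  | _ n IH =>
  set D := X ⊓ Y with hD
  rcases (inf_le_left : D ≤ X).eq_or_lt with e | hDX
  · have hle : X ≤ Y := e ▸ inf_le_right
    exact ⟨1, one_mem _, by rw [map_one, one_smul]; exact le_antisymm hle (hX.2 hY.1 hle)⟩
  rcases (inf_le_right : D ≤ Y).eq_or_lt with e | hDY
  · have hle : Y ≤ X := e ▸ inf_le_left
    exact ⟨1, one_mem _, by rw [map_one, one_smul]; exact le_antisymm (hY.2 hX.1 hle) hle⟩
  have hDp : IsPGroup p ↥D := hX.1.1.to_le inf_le_left
  have hDn : (S : Subgroup G) ≤ normalizer (D : Set G) := Signalizer.le_normalizer_inf hX.1.2 hY.1.2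
  set M := normalizer (D : Set G)
  have hM : M ≠ ⊤ := normalizer_ne_top L hp hp2 hDp hne
  have hMn : (S : Subgroup G) ≤ normalizer (M : Set G) := hDn.trans le_normalizer
  have hin : ∀ Z : Subgroup G, InvP S p Z → InvP S p (M ⊓ Z) ∧ M ⊓ Z ≤ oddPart M := fun Z hZ =>
    have h1 : InvP S p (M ⊓ Z) := ⟨hZ.1.to_le inf_le_right, Signalizer.le_normalizer_inf hMn hZ.2⟩
    ⟨h1, odd_le_sylow L hM hDn inf_le_left (odd_card_of_isPGroup hp hp2 h1.1) h1.2⟩
  obtain ⟨c, hcK, hcS, Z₀, hZ₀, hYZ₀, hXZ₀, -⟩ :=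
    exists_common L hp hDn (hin X hX.1).1 (hin X hX.1).2 (hin Y hY.1).1 (hin Y hY.1).2
  obtain ⟨Z, hZ, hZ₀Z⟩ := exists_maxP_ge hZ₀
  have hlt : ∀ U V : Subgroup G, ∀ W : Subgroup G, W ≤ U → W ≤ V → Nat.card ↥D < Nat.card ↥W →
      Nat.card G - Nat.card ↥(U ⊓ V : Subgroup G) < n := by
    intro U V W hWU hWV hDW
    have h1 := Subgroup.card_le_of_le (le_inf hWU hWV)
    have h2 := Subgroup.card_le_card_group (U ⊓ V : Subgroup G)
    omega
  have hgt : ∀ U V : Subgroup G, D < V → D ≤ U → Nat.card ↥D < Nat.card ↥V := fun U V h _ =>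
    lt_of_not_ge fun h' => h.ne (eq_of_le_of_card_ge h.le h')
  have hne' : ∀ U V W : Subgroup G, W ≤ U → W ≤ V → Nat.card ↥D < Nat.card ↥W → U ⊓ V ≠ ⊥ := by
    intro U V W hWU hWV hDW e
    have h1 := Subgroup.card_le_of_le (le_inf hWU hWV)
    have h2 : 0 < Nat.card ↥D := Nat.card_pos
    rw [e, Subgroup.card_bot] at h1
    omega
  have hcYZ : M ⊓ Y ≤ Z := hYZ₀.trans hZ₀Z
  have hYc : Nat.card ↥D < Nat.card ↥(M ⊓ Y : Subgroup G) :=
    hgt Y _ (PLocal.normalizer_inf_of_lt hY.1.1 hDY) hDY.le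
  have hXc : Nat.card ↥D < Nat.card ↥(MulAut.conj c • (M ⊓ X) : Subgroup G) := by
    rw [Coprime.card_conj]
    exact hgt X _ (PLocal.normalizer_inf_of_lt hX.1.1 hDX) hDX.le
  have hcN : c ∈ normalizer ((S : Subgroup G) : Set G) := centralizer_le_normalizer _ hcS
  have hX' := hX.conj_normalizer hcN
  obtain ⟨c₁, hc₁, he₁⟩ := IH _
    (hlt (MulAut.conj c • X) Z (MulAut.conj c • (M ⊓ X))
      (Subgroup.pointwise_smul_le_pointwise_smul_iff.2 inf_le_right) (hXZ₀.trans hZ₀Z) hXc)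
    hX' hZ (hne' _ _ (MulAut.conj c • (M ⊓ X))
      (Subgroup.pointwise_smul_le_pointwise_smul_iff.2 inf_le_right) (hXZ₀.trans hZ₀Z) hXc) rfl
  obtain ⟨c₂, hc₂, he₂⟩ := IH _ (hlt Z Y (M ⊓ Y) hcYZ inf_le_right hYc) hZ hY
    (hne' _ _ (M ⊓ Y) hcYZ inf_le_right hYc) rfl
  exact ⟨c₂ * c₁ * c, mul_mem (mul_mem hc₂ hc₁) hcS, by rw [map_mul, map_mul, mul_smul, mul_smul, he₁, he₂]⟩

/-- Maximal invariant `p`-subgroups with fixed points of the same involution are conjugate. -/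
theorem exists_conj_of_fixed (hp : p.Prime) (hp2 : p ≠ 2) {X Y : Subgroup G} (hX : MaxP S p X)
    (hY : MaxP S p Y) {a : G} (ha : a ∈ A) (ha1 : a ≠ 1) (hXa : X ⊓ centralizer ({a} : Set G) ≠ ⊥)
    (hYa : Y ⊓ centralizer ({a} : Set G) ≠ ⊥) :
    ∃ c ∈ centralizer ((S : Subgroup G) : Set G), MulAut.conj c • X = Y := by
  have h1 := invP_inf_cent L hX.1 ha
  have h2 := invP_inf_cent L hY.1 ha
  have h1' := le_core L ha ha1 inf_le_right (odd_card_of_isPGroup hp hp2 h1.1) h1.2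
  have h2' := le_core L ha ha1 inf_le_right (odd_card_of_isPGroup hp hp2 h2.1) h2.2
  obtain ⟨c, -, hcS, Z₀, hZ₀, hYZ₀, hXZ₀, -⟩ := exists_common L hp (S_le_cent L ha) h1 h1' h2 h2'
  obtain ⟨Z, hZ, hZ₀Z⟩ := exists_maxP_ge hZ₀
  have hcN : c ∈ normalizer ((S : Subgroup G) : Set G) := centralizer_le_normalizer _ hcS
  obtain ⟨c₁, hc₁, he₁⟩ := exists_conj_of_meet L hp hp2 (hX.conj_normalizer hcN) hZ fun e => hXa (by
    have h3 : MulAut.conj c • (X ⊓ centralizer ({a} : Set G)) ≤ ⊥ :=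
      e ▸ le_inf (Subgroup.pointwise_smul_le_pointwise_smul_iff.2 inf_le_left) (hXZ₀.trans hZ₀Z)
    refine (Subgroup.eq_bot_iff_forall _).2 fun x hx => ?_
    exact conj_eq_one_iff.1 (mem_bot.1 (h3 (conj_smul_mem hx))))
  obtain ⟨c₂, hc₂, he₂⟩ := exists_conj_of_meet L hp hp2 hZ hY fun e => hYa
    (le_bot_iff.1 (e ▸ le_inf (hYZ₀.trans hZ₀Z) inf_le_left))
  exact ⟨c₂ * c₁ * c, mul_mem (mul_mem hc₂ hc₁) hcS, by rw [map_mul, map_mul, mul_smul, mul_smul, he₁, he₂]⟩

theorem not_isCyclic : ¬ IsCyclic ↥A := fun hc => by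
  obtain ⟨g, hg⟩ := hc.exists_generator
  have h2 : g ^ 2 = 1 := Subtype.ext (by rw [pow_two]; exact L.setting.sq g.2)
  have := Nat.le_of_dvd two_pos (orderOf_dvd_of_pow_eq_one h2)
  rw [orderOf_eq_card_of_forall_mem_zpowers hg, L.setting.card] at this
  omega

theorem coprime_A {K : Subgroup G} (hK : Odd (Nat.card ↥K)) : (Nat.card ↥A).Coprime (Nat.card ↥K) := by
  rw [L.setting.card, show (4 : ℕ) = 2 ^ 2 from rfl]
  exact Nat.Coprime.pow_left 2 (Nat.coprime_two_left.2 hK)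

theorem A_comm : IsMulCommutative ↥A :=
  ⟨⟨fun x y => Subtype.ext (L.setting.commute x.2 ((A_le_S L) y.2))⟩⟩

/-- An odd invariant subgroup is generated by the fixed points of the involutions. -/
theorem le_of_fixed {K W : Subgroup G} (hK : A ≤ normalizer (K : Set G)) (hodd : Odd (Nat.card ↥K))
    (hW : ∀ a ∈ A, a ≠ 1 → K ⊓ centralizer ({a} : Set G) ≤ W) : K ≤ W :=
  haveI := A_comm L
  Coprime.le_of_noncyclic (not_isCyclic L) hK (coprime_A L hodd) hW

/-- A proper subgroup over `C(a)` fusing `A` is strongly embedded. -/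
theorem se_of_fused {M : Subgroup G} (hM : M ≠ ⊤) {a : G} (ha : a ∈ A) (ha1 : a ≠ 1)
    (hC : centralizer ({a} : Set G) ≤ M) (hfus : ∀ z ∈ A, z ≠ 1 → ∃ m ∈ M, m * a * m⁻¹ = z) :
    ∃ H : Subgroup G, Cfsg.IsStronglyEmbedded H := by
  haveI : Fact (Nat.Prime 2) := ⟨Nat.prime_two⟩
  have hSM : (S : Subgroup G) ≤ M := (S_le_cent L ha).trans hC
  have hconj : ∀ t ∈ M, orderOf t = 2 → ∃ m ∈ M, t = m * a * m⁻¹ := by
    intro t ht ht2
    obtain ⟨m, hm⟩ := Involution.exists_conj_mem_sylow (S.subtype hSM) (t := (⟨t, ht⟩ : M))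
      (by rw [Subgroup.orderOf_mk]; exact ht2)
    have hmS : (m : G) * t * (m : G)⁻¹ ∈ (S : Subgroup G) := mem_subgroupOf.1 hm
    have hmA : (m : G) * t * (m : G)⁻¹ ∈ A := (L.setting.mem _ hmS).1 (by
      rw [show (m : G) * t * (m : G)⁻¹ * ((m : G) * t * (m : G)⁻¹) = m * (t * t) * (m : G)⁻¹ by group,
        Involution.mul_self ht2]
      group)
    obtain ⟨k, hk, hke⟩ := hfus _ hmA fun e => Involution.ne_one ht2 (conj_eq_one_iff.1 e)
    refine ⟨(m : G)⁻¹ * k, mul_mem (inv_mem m.2) hk, ?_⟩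
    rw [show (m : G)⁻¹ * k * a * ((m : G)⁻¹ * k)⁻¹ = (m : G)⁻¹ * (k * a * k⁻¹) * m by group, hke]
    group
  refine ⟨M, Involution.isStronglyEmbedded_iff_forall.2 ⟨hM, ?_, fun g t ht htM hg => ?_⟩⟩
  · exact even_iff_two_dvd.2 ((by rw [L.setting.card]; norm_num : 2 ∣ Nat.card ↥A).trans
      (card_dvd_of_le ((A_le_S L).trans hSM)))
  · obtain ⟨m, hm, rfl⟩ := hconj t htM ht
    obtain ⟨m', hm', he⟩ := hconj _ hg (by rw [Involution.orderOf_conj]; exact ht)
    have hc : m'⁻¹ * g * m ∈ M := hC (mem_centralizer_singleton_iff.2 (by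
      calc m'⁻¹ * g * m * a = m'⁻¹ * (g * (m * a * m⁻¹) * g⁻¹) * (g * m) := by group
        _ = m'⁻¹ * (m' * a * m'⁻¹) * (g * m) := by rw [he]
        _ = a * (m'⁻¹ * g * m) := by group))
    have h2 := mul_mem (mul_mem hm' hc) (inv_mem hm)
    rwa [show m' * (m'⁻¹ * g * m) * m⁻¹ = g by group] at h2

end Finite

end Cfsg.Agent.Goldschmidt.ThreeInv.Primes
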