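import Cfsg.Agent.EqLemmas
import Cfsg.Agent.Lib.Goldschmidt.ThreeInv.Primes.Base
import Cfsg.Agent.Lib.FTUse.Hall
import Cfsg.Agent.Lib.OddOrderTheorem.FTUse
import Cfsg.Agent.Lib.Solvable.PiSeparable

/-!
# Three involutions, section 1: a mixed class (owner: helper87)

* `exists_factor` : `C(a) = O(C(a)) (N(S) ∩ C(A))`
* `cent_S_le` : `C(S) ≤ O(C(A)) S`
* `Mixed` : a maximal invariant `p`-subgroup centralised by no involution of `A`
* `Mixed.fused`, `Mixed.meets` : `N(S) ∩ N(X)` fuses `A`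
* `Mixed.exists_normalizing` : `{2,p}`-subgroups of `C(A)` go into `N(X)`, `X` suitably chosen
-/

set_option autoImplicit false
set_option linter.style.haveILetI false
set_option linter.unusedSectionVars false

namespace Cfsg.Agent.Goldschmidt.ThreeInv.Primes

open Subgroup GWKlein
open scoped Pointwise

universe u

variable {G : Type u} [Group G] [Finite G] {S : Sylow 2 G} {A : Subgroup G} {p : ℕ}

section Local

variable (L : OddLocal S A)
include L

theorem cent_A_le_cent {a : G} (ha : a ∈ A) : centralizer (A : Set G) ≤ centralizer ({a} : Set G) :=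
  centralizer_le (Set.singleton_subset_iff.2 ha)

theorem exists_factor {a : G} (ha : a ∈ A) (ha1 : a ≠ 1) {g : G} (hg : g ∈ centralizer ({a} : Set G)) :
    ∃ ρ ∈ oddPart (centralizer ({a} : Set G)), ∃ n, n ∈ normalizer ((S : Subgroup G) : Set G) ∧
      n ∈ centralizer (A : Set G) ∧ g = ρ * n := by
  haveI := L.simple
  obtain ⟨O, hO, hOC, hOn, -, hfac, -⟩ := L.setting.exists_cent_shape ha ha1
  obtain ⟨ρ, hρ, n, hn, hnA, e⟩ := hfac g hg
  refine ⟨ρ, le_core L ha ha1 hOC hO ?_ hρ, n, hn, hnA, e⟩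
  exact fun s hs => Coprime.mem_normalizer_of_forall (hOn s (S_le_cent L ha hs))

theorem S_le_cent_A : (S : Subgroup G) ≤ centralizer (A : Set G) := L.setting.central

theorem S_le_normalizer_coreA : (S : Subgroup G) ≤ normalizer (coreA A : Set G) :=
  (S_le_cent_A L).trans (le_normalizer_oddPart _)

/-- `O(C(A)) = O(C(a)) ∩ C(A)`. -/
theorem coreA_eq {a : G} (ha : a ∈ A) (ha1 : a ≠ 1) :
    coreA A = oddPart (centralizer ({a} : Set G)) ⊓ centralizer (A : Set G) := by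
  refine le_antisymm (le_inf ?_ (map_subtype_le _)) ?_
  · exact le_core L ha ha1 ((map_subtype_le _).trans (cent_A_le_cent L ha))
      (odd_card_oddPart (centralizer (A : Set G))) (S_le_normalizer_coreA L)
  · intro x hx
    refine ⟨⟨x, hx.2⟩, Cores.le_pPrimeCore (N := (oddPart (centralizer ({a} : Set G))).subgroupOf _) ?_ ?_
      (mem_subgroupOf.2 hx.1), rfl⟩
    · exact Cores.subgroupOf_normal_of_le_normalizer
        ((cent_A_le_cent L ha).trans (le_normalizer_oddPart _))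
    · rw [← Cores.card_map_subtype, subgroupOf_map_subtype]
      exact Nat.coprime_two_right.2 ((odd_card_oddPart (centralizer ({a} : Set G))).of_dvd_nat
        (card_dvd_of_le inf_le_left))

theorem cent_S_le : centralizer ((S : Subgroup G) : Set G) ≤ coreA A ⊔ (S : Subgroup G) := by
  haveI : Fact (Nat.Prime 2) := ⟨Nat.prime_two⟩
  intro c hc
  obtain ⟨a, ha, ha1⟩ := exists_ne_one L
  obtain ⟨k, m, hm, hkm⟩ := Nat.exists_eq_two_pow_mul_odd (orderOf_pos c).ne'
  have hcop : Nat.Coprime (2 ^ k) m := Nat.Coprime.pow_left k (Nat.coprime_two_left.2 hm)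
  have hzn : ∀ d ∈ centralizer ((S : Subgroup G) : Set G),
      (S : Subgroup G) ≤ normalizer (zpowers d : Set G) := fun d hd s hs =>
    Coprime.mem_normalizer_of_forall fun x hx => by
      obtain ⟨i, rfl⟩ := hx
      refine ⟨i, ?_⟩
      show d ^ i = s * d ^ i * s⁻¹
      rw [((show Commute s d from mem_centralizer_iff.1 hd s hs).zpow_right i).eq, mul_inv_cancel_right]
  have h2 : c ^ m ∈ (S : Subgroup G) := by
    have hp2 : IsPGroup 2 ↥(zpowers (c ^ m) ⊔ (S : Subgroup G)) := by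
      refine IsPGroup.to_sup_of_normal_right' (IsPGroup.of_card (n := k) ?_) S.2
        (zpowers_le.2 (centralizer_le_normalizer _ (pow_mem hc m)))
      rw [Nat.card_zpowers, orderOf_pow_of_dvd hm.pos.ne' (hkm ▸ dvd_mul_left m _), hkm,
        Nat.mul_div_cancel _ hm.pos]
    exact S.is_maximal' hp2 le_sup_right ▸ mem_sup_left (mem_zpowers _)
  have ho : c ^ 2 ^ k ∈ coreA A := by
    have hd := pow_mem hc (2 ^ k)
    rw [coreA_eq L ha ha1]
    refine ⟨le_core L ha ha1 ?_ ?_ (hzn _ hd) (mem_zpowers _), cent_S_le_cent_A L hd⟩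
    · exact zpowers_le.2 (cent_A_le_cent L ha (cent_S_le_cent_A L hd))
    · rw [Nat.card_zpowers, orderOf_pow_of_dvd (by positivity) (hkm ▸ dvd_mul_right _ m), hkm,
        Nat.mul_div_cancel_left _ (by positivity)]
      exact hm
  obtain ⟨u, v, huv⟩ : ∃ u v : ℤ, (2 ^ k : ℕ) * u + (m : ℕ) * v = (1 : ℤ) := by
    have := Nat.gcd_eq_gcd_ab (2 ^ k) m
    rw [hcop.gcd_eq_one] at this
    exact ⟨_, _, by simpa using this.symm⟩
  rw [← zpow_one c, ← huv, zpow_add, zpow_mul, zpow_mul, zpow_natCast, zpow_natCast]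
  exact mul_mem (mem_sup_left (zpow_mem ho u)) (mem_sup_right (zpow_mem h2 v))

/-- An element of `N(S)` does not swap two involutions of `A`. -/
theorem no_swap {a b n : G} (ha : a ∈ A) (hb : b ∈ A) (hn : n ∈ normalizer ((S : Subgroup G) : Set G))
    (hab : n * a * n⁻¹ = b) (hba : n * b * n⁻¹ = a) : a = b := by
  haveI : Fact (Nat.Prime 2) := ⟨Nat.prime_two⟩
  obtain ⟨k, m, hm, hkm⟩ := Nat.exists_eq_two_pow_mul_odd (orderOf_pos n).ne'
  obtain ⟨j, rfl⟩ := hm
  have hS : n ^ (2 * j + 1) ∈ (S : Subgroup G) := by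
    have hp2 : IsPGroup 2 ↥(zpowers (n ^ (2 * j + 1)) ⊔ (S : Subgroup G)) := by
      refine IsPGroup.to_sup_of_normal_right' (IsPGroup.of_card (n := k) ?_) S.2
        (zpowers_le.2 (pow_mem hn _))
      rw [Nat.card_zpowers, orderOf_pow_of_dvd (by omega) (hkm ▸ dvd_mul_left _ _), hkm,
        Nat.mul_div_cancel _ (by omega)]
    exact S.is_maximal' hp2 le_sup_right ▸ mem_sup_left (mem_zpowers _)
  have h2 : ∀ i : ℕ, n ^ (2 * i + 1) * a * (n ^ (2 * i + 1))⁻¹ = b := by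
    intro i
    induction i with
    | zero => simpa using hab
    | succ i ih =>
      rw [show n ^ (2 * (i + 1) + 1) = n * (n * n ^ (2 * i + 1)) by rw [← pow_succ', ← pow_succ']; congr 1]
      calc n * (n * n ^ (2 * i + 1)) * a * (n * (n * n ^ (2 * i + 1)))⁻¹
          = n * (n * (n ^ (2 * i + 1) * a * (n ^ (2 * i + 1))⁻¹) * n⁻¹) * n⁻¹ := by group
        _ = b := by rw [ih, hba, hab]
  have h3 := h2 j
  rwa [← L.setting.commute ha hS, mul_inv_cancel_right] at h3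

/-- An element of `N(S)` moving `a` fuses `A`. -/
theorem cycle {a m : G} (ha : a ∈ A) (ha1 : a ≠ 1) (hm : m ∈ normalizer ((S : Subgroup G) : Set G))
    (hma : m * a * m⁻¹ ≠ a) {z : G} (hz : z ∈ A) (hz1 : z ≠ 1) :
    z = a ∨ z = m * a * m⁻¹ ∨ z = m * (m * a * m⁻¹) * m⁻¹ := by
  have hb := L.setting.conj_mem hm ha
  have hb1 : m * a * m⁻¹ ≠ 1 := fun e => ha1 (conj_eq_one_iff.1 e)
  refine L.setting.eq_or_eq_or_eq ha hb (L.setting.conj_mem hm hb) ha1 hb1
    (fun e => hb1 (conj_eq_one_iff.1 e)) (Ne.symm hma)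
    (fun e => hma (mul_left_cancel (mul_right_cancel e.symm)))
    (fun e => hma (no_swap L hb ha hm e.symm rfl)) hz hz1

theorem exists_move {a z : G} (ha : a ∈ A) (ha1 : a ≠ 1) (hz : z ∈ A) (hz1 : z ≠ 1) :
    ∃ g ∈ normalizer ((S : Subgroup G) : Set G), g * a * g⁻¹ = z := by
  haveI := L.simple
  obtain ⟨g, hgS, hg⟩ := L.setting.fused ha ha1 hz hz1
  exact ⟨g, Coprime.mem_normalizer_of_forall hgS, hg⟩

end Local

/-- A maximal invariant `p`-subgroup centralised by no involution of `A`. -/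
structure Mixed (S : Sylow 2 G) (A : Subgroup G) (p : ℕ) (X : Subgroup G) : Prop where
  max : MaxP S p X
  moved : ∀ v ∈ A, v ≠ 1 → ∃ x ∈ X, v * x ≠ x * v

namespace Mixed

variable {X : Subgroup G} (hX : Mixed S A p X) (L : OddLocal S A)
include hX L

theorem A_le_normalizer : A ≤ normalizer (X : Set G) := (A_le_S L).trans hX.max.1.2

theorem fused (hp : p.Prime) (hp2 : p ≠ 2) {a z : G} (ha : a ∈ A) (ha1 : a ≠ 1) (hz : z ∈ A)
    (hz1 : z ≠ 1) :
    ∃ m ∈ normalizer ((S : Subgroup G) : Set G), m ∈ normalizer (X : Set G) ∧ m * a * m⁻¹ = z := by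
  have hodd := odd_card_of_isPGroup hp hp2 hX.max.1.1
  have hAX := hX.A_le_normalizer L
  obtain ⟨u, hu, hu1, huX⟩ : ∃ u ∈ A, u ≠ 1 ∧ X ⊓ centralizer ({u} : Set G) ≠ ⊥ := by
    by_contra hno
    push Not at hno
    obtain ⟨x, hx, hxa⟩ := hX.moved a ha ha1
    have := le_of_fixed L (W := ⊥) hAX hodd (fun u hu hu1 => le_of_eq (hno u hu hu1)) hx
    exact hxa (by rw [mem_bot.1 this]; simp)
  obtain ⟨w, hw, hw1, hwu, hwX⟩ : ∃ w ∈ A, w ≠ 1 ∧ w ≠ u ∧ X ⊓ centralizer ({w} : Set G) ≠ ⊥ := by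
    by_contra hno
    push Not at hno
    obtain ⟨x, hx, hxu⟩ := hX.moved u hu hu1
    have hle : X ≤ centralizer ({u} : Set G) := le_of_fixed L hAX hodd fun w hw hw1 => by
      rcases eq_or_ne w u with rfl | hne
      · exact inf_le_right
      · exact (hno w hw hw1 hne).le.trans bot_le
    exact hxu (mem_centralizer_singleton_iff.1 (hle hx)).symm
  obtain ⟨n, hn, hnu⟩ := exists_move L hu hu1 hw hw1
  have hnX : (MulAut.conj n • X : Subgroup G) ⊓ centralizer ({w} : Set G) ≠ ⊥ := fun e => huX (by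
    refine (Subgroup.eq_bot_iff_forall _).2 fun x hx => ?_
    refine conj_eq_one_iff.1 (mem_bot.1 (e ▸ ⟨conj_smul_mem hx.1, mem_centralizer_singleton_iff.2 ?_⟩ :
      n * x * n⁻¹ ∈ (⊥ : Subgroup G)))
    rw [← hnu]
    calc n * x * n⁻¹ * (n * u * n⁻¹) = n * (x * u) * n⁻¹ := by group
      _ = n * (u * x) * n⁻¹ := by rw [mem_centralizer_singleton_iff.1 hx.2]
      _ = n * u * n⁻¹ * (n * x * n⁻¹) := by group)
  obtain ⟨c, hc, hcX⟩ := exists_conj_of_fixed L hp hp2 (hX.max.conj_normalizer hn) hX.max hw hw1 hnX hwX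
  have hm : c * n ∈ normalizer ((S : Subgroup G) : Set G) := mul_mem (centralizer_le_normalizer _ hc) hn
  have hmX : c * n ∈ normalizer (X : Set G) :=
    Coprime.mem_normalizer_of_conj_eq (by rw [map_mul, mul_smul, hcX])
  have hmu : c * n * u * (c * n)⁻¹ = w := by
    rw [show c * n * u * (c * n)⁻¹ = c * (n * u * n⁻¹) * c⁻¹ by group, hnu,
      conj_eq_self_of_commute (mem_centralizer_iff.1 hc w (A_le_S L hw)).symm]
  have hall : ∀ v ∈ A, v ≠ 1 → ∃ m ∈ normalizer ((S : Subgroup G) : Set G),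
      m ∈ normalizer (X : Set G) ∧ m * u * m⁻¹ = v := by
    intro v hv hv1
    rcases cycle L hu hu1 hm (by rw [hmu]; exact hwu) hv hv1 with e | e | e
    · exact ⟨1, one_mem _, one_mem _, by rw [e]; group⟩
    · exact ⟨_, hm, hmX, e.symm⟩
    · exact ⟨_, mul_mem hm hm, mul_mem hmX hmX, by rw [e]; group⟩
  obtain ⟨m₁, hm₁, hm₁X, e₁⟩ := hall a ha ha1
  obtain ⟨m₂, hm₂, hm₂X, e₂⟩ := hall z hz hz1
  exact ⟨m₂ * m₁⁻¹, mul_mem hm₂ (inv_mem hm₁), mul_mem hm₂X (inv_mem hm₁X),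
    by rw [← e₁, ← e₂]; group⟩

theorem meets (hp : p.Prime) (hp2 : p ≠ 2) {a : G} (ha : a ∈ A) (ha1 : a ≠ 1) :
    X ⊓ centralizer ({a} : Set G) ≠ ⊥ := by
  intro e
  obtain ⟨x, hx, hxa⟩ := hX.moved a ha ha1
  refine hxa ?_
  have hbot : X ≤ ⊥ := le_of_fixed L (hX.A_le_normalizer L) (odd_card_of_isPGroup hp hp2 hX.max.1.1)
    fun z hz hz1 y hy => by
      obtain ⟨m, -, hmX, hma⟩ := hX.fused L hp hp2 ha ha1 hz hz1
      have h1 : m⁻¹ * y * m ∈ X ⊓ centralizer ({a} : Set G) := by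
        refine ⟨?_, mem_centralizer_singleton_iff.2 ?_⟩
        · simpa using (mem_normalizer_iff.1 (inv_mem hmX) y).1 hy.1
        · have h2 := mem_centralizer_singleton_iff.1 hy.2
          rw [← hma] at h2
          calc m⁻¹ * y * m * a = m⁻¹ * (y * (m * a * m⁻¹)) * m := by group
            _ = m⁻¹ * (m * a * m⁻¹ * y) * m := by rw [h2]
            _ = a * (m⁻¹ * y * m) := by group
      rw [e, mem_bot] at h1
      exact mem_bot.2 (by rw [show y = m * (m⁻¹ * y * m) * m⁻¹ by group, h1]; group)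
  rw [mem_bot.1 (hbot hx)]; simp

theorem exists_conj_eq (hp : p.Prime) (hp2 : p ≠ 2) {n : G}
    (hn : n ∈ normalizer ((S : Subgroup G) : Set G)) :
    ∃ c ∈ centralizer ((S : Subgroup G) : Set G), MulAut.conj c • (MulAut.conj n • X) = X := by
  obtain ⟨a, ha, ha1⟩ := exists_ne_one L
  have hb := L.setting.conj_mem hn ha
  have hb1 : n * a * n⁻¹ ≠ 1 := fun e => ha1 (conj_eq_one_iff.1 e)
  refine exists_conj_of_fixed L hp hp2 (hX.max.conj_normalizer hn) hX.max hb hb1 ?_ (hX.meets L hp hp2 hb hb1)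
  intro e
  refine hX.meets L hp hp2 ha ha1 ((Subgroup.eq_bot_iff_forall _).2 fun x hx => ?_)
  refine conj_eq_one_iff.1 (mem_bot.1 (e ▸ ⟨conj_smul_mem hx.1, mem_centralizer_singleton_iff.2 ?_⟩ :
    n * x * n⁻¹ ∈ (⊥ : Subgroup G)))
  calc n * x * n⁻¹ * (n * a * n⁻¹) = n * (x * a) * n⁻¹ := by group
    _ = n * (a * x) * n⁻¹ := by rw [mem_centralizer_singleton_iff.1 hx.2]
    _ = n * a * n⁻¹ * (n * x * n⁻¹) := by group

theorem conj_moved {c : G} (hc : c ∈ centralizer (A : Set G)) {v : G} (hv : v ∈ A) (hv1 : v ≠ 1) :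
    ∃ x ∈ (MulAut.conj c • X : Subgroup G), v * x ≠ x * v := by
  obtain ⟨x, hx, hxv⟩ := hX.moved v hv hv1
  refine ⟨_, conj_smul_mem hx, fun e => hxv ?_⟩
  have hcv : c⁻¹ * v * c = v := by rw [mul_assoc, mem_centralizer_iff.1 hc v hv, inv_mul_cancel_left]
  calc v * x = (c⁻¹ * v * c) * x := by rw [hcv]
    _ = c⁻¹ * (v * (c * x * c⁻¹)) * c := by group
    _ = c⁻¹ * (c * x * c⁻¹ * v) * c := by rw [e]
    _ = x * (c⁻¹ * v * c) := by group
    _ = x * v := by rw [hcv]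

/-- `{2,p}`-subgroups of `C(A)` go into the normaliser of a mixed subgroup. -/
theorem exists_normalizing (hp : p.Prime) (hp2 : p ≠ 2) {U : Subgroup G} (hU : U ≤ centralizer (A : Set G))
    (hUπ : ∀ q : ℕ, q.Prime → q ∣ Nat.card ↥U → q = 2 ∨ q = p) :
    ∃ g ∈ centralizer (A : Set G), ∃ X' : Subgroup G, Mixed S A p X' ∧
      ∀ u ∈ U, g * u * g⁻¹ ∈ normalizer (X' : Set G) := by
  haveI := Fact.mk hp
  obtain ⟨a, ha, ha1⟩ := exists_ne_one L
  set CA := centralizer (A : Set G)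
  set O := coreA A
  have hOodd : Odd (Nat.card ↥O) := odd_card_oddPart (centralizer (A : Set G))
  obtain ⟨P, -, hPO, hPn, hPc⟩ := Coprime.exists_invariant_card (S_le_normalizer_coreA L)
    (coprime_sylow_two hOodd) (Or.inl (isSolvable_sylow_two S)) p (bot_le : (⊥ : Subgroup G) ≤ O)
    IsPGroup.of_bot (fun s _ => by rw [normalizer_eq_top]; exact mem_top s)
  obtain ⟨X', hX', hPX'⟩ : ∃ X' : Subgroup G, Mixed S A p X' ∧ P ≤ X' := by
    rcases eq_or_ne P ⊥ with rfl | hP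
    · exact ⟨X, hX, bot_le⟩
    obtain ⟨Z, hZ, hPZ⟩ := exists_maxP_ge ⟨Coprime.isPGroup_of_card hPc, hPn⟩
    obtain ⟨c, hc, hcZ⟩ := exists_conj_of_fixed L hp hp2 hX.max hZ ha ha1 (hX.meets L hp hp2 ha ha1)
      fun e => hP (le_bot_iff.1 (e ▸ le_inf hPZ
        ((hPO.trans (map_subtype_le _)).trans (cent_A_le_cent L ha))))
    exact ⟨Z, ⟨hZ, fun v hv hv1 => hcZ ▸ hX.conj_moved L (cent_S_le_cent_A L hc) hv hv1⟩, hPZ⟩
  set K := normalizer (X' : Set G) ⊓ CA
  have hSK : (S : Subgroup G) ≤ K := le_inf hX'.max.1.2 (S_le_cent_A L)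
  have hfac : CA ≤ O ⊔ K := by
    intro y hy
    obtain ⟨ρ, hρ, n, hn, hnA, rfl⟩ := exists_factor L ha ha1 (cent_A_le_cent L ha hy)
    have hρA : ρ ∈ CA := by
      have := mul_mem hy (inv_mem hnA)
      rwa [mul_inv_cancel_right] at this
    have hρO : ρ ∈ O := by
      show ρ ∈ coreA A
      rw [coreA_eq L ha ha1]; exact ⟨hρ, hρA⟩
    obtain ⟨c, hc, hcX⟩ := hX'.exists_conj_eq L hp hp2 hn
    have h1 : c * n ∈ K := ⟨Coprime.mem_normalizer_of_conj_eq (by rw [map_mul, mul_smul, hcX]),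
      mul_mem (cent_S_le_cent_A L hc) hnA⟩
    have h2 : c⁻¹ ∈ O ⊔ K := (sup_le_sup_left hSK O) (inv_mem (cent_S_le L hc))
    have h3 := mul_mem h2 (mem_sup_right h1)
    rw [inv_mul_cancel_left] at h3
    exact mul_mem (mem_sup_left hρO) h3
  haveI : Group.IsSolvable ↥CA :=
    Coprime.isSolvable_of_le (cent_A_le_cent L ha) (L.cent_solvable a ha ha1)
  set O' := Cfsg.pPrimeCore 2 ↥CA
  haveI := Cores.pPrimeCore_normal 2 ↥CA
  set K' := K.subgroupOf CA
  have hO' : O'.map CA.subtype = O := rfl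
  have htop : K' ⊔ O' = ⊤ := by
    refine map_injective CA.subtype_injective (le_antisymm (map_mono le_top) ?_)
    rw [← MonoidHom.range_eq_map, range_subtype, Subgroup.map_sup, subgroupOf_map_subtype, hO',
      inf_eq_left.2 (inf_le_right : K ≤ CA), sup_comm]
    exact hfac
  have hidx : K'.index ∣ Nat.card ↥O' ∧ ¬ p ∣ K'.index := by
    have e : K'.index = K'.relIndex O' := by
      rw [← FTUse.relIndex_sup_normal, htop, relIndex_top_right]
    refine ⟨e ▸ Subgroup.relIndex_dvd_card _ _, fun hd => ?_⟩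
    have hPle : P.subgroupOf CA ≤ K' := fun x hx =>
      mem_subgroupOf.2 ⟨le_normalizer (hPX' (mem_subgroupOf.1 hx)), x.2⟩
    have hPO' : P.subgroupOf CA ≤ O' := fun x hx => by
      obtain ⟨y, hy, he⟩ := hPO (mem_subgroupOf.1 hx)
      exact (Subtype.ext he : y = x) ▸ hy
    have h1 : p ∣ (P.subgroupOf CA).relIndex O' :=
      (e ▸ hd).trans (relIndex_dvd_of_le_left _ hPle)
    have h2 := relIndex_mul_relIndex ⊥ (P.subgroupOf CA) O' bot_le hPO'
    rw [relIndex_bot_left, relIndex_bot_left, Cores.card_subgroupOf (hPO.trans (map_subtype_le _)),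
      hPc] at h2
    have h3 : p ^ ((Nat.card ↥O).factorization p + 1) ∣ Nat.card ↥O := by
      conv_rhs => rw [← hO', Cores.card_map_subtype, ← h2]
      rw [pow_succ]
      exact mul_dvd_mul_left _ h1
    exact absurd ((hp.pow_dvd_iff_le_factorization Nat.card_pos.ne').1 h3) (by omega)
  set π : Set ℕ := {2, p}
  obtain ⟨⟨H, hH⟩, -, -⟩ := FTUse.hall (π := π) OddOrderTheorem.oddSolvable
    (Solvable.isPiSeparable_of_isSolvable (G := ↥K') _)
  obtain ⟨-, hconj, hge⟩ := FTUse.hall (π := π) OddOrderTheorem.oddSolvable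
    (Solvable.isPiSeparable_of_isSolvable (G := ↥CA) _)
  have hH' : Cfsg.IsPiHall π (H.map K'.subtype) := by
    refine ⟨fun q hq hd => hH.1 q hq (by rwa [Cores.card_map_subtype] at hd), fun q hq hqπ hd => ?_⟩
    rw [index_map_subtype] at hd
    rcases (Nat.Prime.dvd_mul hq).1 hd with h1 | h1
    · exact hH.2 q hq hqπ h1
    rcases hqπ with rfl | hq'
    · exact Nat.not_even_iff_odd.2 (by
        rw [← Cores.card_map_subtype, hO'] at hidx
        exact hOodd.of_dvd_nat hidx.1) (even_iff_two_dvd.2 h1)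
    · rw [Set.mem_singleton_iff] at hq'
      exact hidx.2 (hq' ▸ h1)
  obtain ⟨H₁, hH₁, hUH₁⟩ := hge (U.subgroupOf CA) fun q hq hd => by
    rw [Cores.card_subgroupOf hU] at hd
    exact hUπ q hq hd
  obtain ⟨g, hg⟩ := hconj H₁ _ hH₁ hH'
  refine ⟨g, g.2, X', hX', fun u hu => ?_⟩
  have h1 : g * ⟨u, hU hu⟩ * g⁻¹ ∈ H.map K'.subtype := by
    rw [← hg]
    exact conj_smul_mem (hUH₁ (mem_subgroupOf.2 hu))
  exact ((map_subtype_le H h1 : _ ∈ K') : (g : G) * u * (g : G)⁻¹ ∈ K).1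

end Mixed

end Cfsg.Agent.Goldschmidt.ThreeInv.Primes
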