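import Cfsg.Agent.EqLemmas
import Cfsg.Agent.Lib.Goldschmidt.ThreeInv.Primes.Mixed
import Cfsg.Agent.Lib.GWKlein.General.Main
import Cfsg.Agent.Lib.GWKlein.General.L2Embedded
import Cfsg.Agent.Lib.GWKlein.General.TypesConstrained
import Cfsg.Agent.Lib.ZStar.Apply
import Cfsg.Agent.Lib.ZStarPrimePower.Proved

/-!
# Three involutions, section 1: every centraliser of an element of order `p` is constrained (owner: helper87)

* `le_of_even_normal` : in a nonsolvable subgroup over `A` the normal subgroups of even order contain `A`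
* `good_of_moved` : constrained with solvable core if `A` moves a `p`-subgroup of the odd core
* `core_of_pair` : Sylow 2-subgroup `A`: two torus components are not in one `p`-group
* `Mixed.pGood` : `PGood G p`
-/

set_option autoImplicit false
set_option linter.style.haveILetI false
set_option linter.unusedSectionVars false

namespace Cfsg.Agent.Goldschmidt.ThreeInv.Primes

open Subgroup GWKlein
open scoped Pointwise

universe u

variable {G : Type u} [Group G] [Finite G] {S : Sylow 2 G} {A : Subgroup G} {p : ℕ}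

section Local

variable (L : OddLocal S A)
include L

/-- The conjugate in `S` of an involution lies in `A`. -/
theorem conj_mem_A {g x : G} (hg : g * x * g⁻¹ ∈ (S : Subgroup G)) (hx : x * x = 1) : g * x * g⁻¹ ∈ A :=
  (L.setting.mem _ hg).1 (by rw [show g * x * g⁻¹ * (g * x * g⁻¹) = g * (x * x) * g⁻¹ by group, hx]; group)

/-- The involutions of a 2-subgroup over `A` are those of `A`. -/
theorem mem_A_of_sq {T : Subgroup G} (hT : IsPGroup 2 ↥T) (hAT : A ≤ T) {x : G} (hx : x ∈ T)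
    (hx2 : x * x = 1) : x ∈ A := by
  haveI : Fact (Nat.Prime 2) := ⟨Nat.prime_two⟩
  obtain ⟨R, hR⟩ := hT.exists_le_sylow
  obtain ⟨g, hg⟩ := MulAction.exists_smul_eq G R S
  have hm : ∀ z ∈ T, g * z * g⁻¹ ∈ (S : Subgroup G) := fun z hz => by
    rw [← hg, Sylow.coe_subgroup_smul]; exact conj_smul_mem (hR hz)
  let φ : A → A := fun a => ⟨g * a * g⁻¹, conj_mem_A L (hm _ (hAT a.2)) (L.setting.sq a.2)⟩
  have hφ : Function.Injective φ := fun a b h => Subtype.ext
    (mul_left_cancel (mul_right_cancel (congrArg Subtype.val h)))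
  obtain ⟨a, ha⟩ := (Finite.injective_iff_surjective.1 hφ) ⟨g * x * g⁻¹, conj_mem_A L (hm x hx) hx2⟩
  exact (mul_left_cancel (mul_right_cancel (congrArg Subtype.val ha)) : (a : G) = x) ▸ a.2

/-- In a 2-subgroup over `A` everything centralises `A`. -/
theorem le_cent_A_of_two {T : Subgroup G} (hT : IsPGroup 2 ↥T) (hAT : A ≤ T) :
    T ≤ centralizer (A : Set G) := by
  haveI : Fact (Nat.Prime 2) := ⟨Nat.prime_two⟩
  obtain ⟨R, hR⟩ := hT.exists_le_sylow
  obtain ⟨g, hg⟩ := MulAction.exists_smul_eq G R S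
  have hm : ∀ z ∈ T, g * z * g⁻¹ ∈ (S : Subgroup G) := fun z hz => by
    rw [← hg, Sylow.coe_subgroup_smul]; exact conj_smul_mem (hR hz)
  intro t ht
  refine mem_centralizer_iff.2 fun a ha => ?_
  have h1 := L.setting.commute (conj_mem_A L (hm a (hAT ha)) (L.setting.sq ha)) (hm t ht)
  calc a * t = g⁻¹ * (g * a * g⁻¹ * (g * t * g⁻¹)) * g := by group
    _ = t * a := by rw [h1]; group

/-- An involution of a nonsolvable subgroup over `A` is not isolated. -/
theorem exists_conj_of_not_solvable {M : Subgroup G} (hAM : A ≤ M) (hns : ¬ Group.IsSolvable ↥M) {a : G}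
    (ha : a ∈ A) (ha1 : a ≠ 1) : ∃ g ∈ M, g * a * g⁻¹ ∈ A ∧ g * a * g⁻¹ ≠ a := by
  haveI : Fact (Nat.Prime 2) := ⟨Nat.prime_two⟩
  by_contra hno
  push Not at hno
  set a' : ↥M := ⟨a, hAM ha⟩
  have ha2 : orderOf a = 2 := orderOf_eq_prime (by rw [pow_two, L.setting.sq ha]) ha1
  set C := centralizer ({a'} : Set ↥M)
  have hAC : ∀ x ∈ A, ∀ hx : x ∈ M, (⟨x, hx⟩ : ↥M) ∈ C := fun x hx hxM =>
    mem_centralizer_singleton_iff.2 (Subtype.ext (mem_centralizer_singleton_iff.1 (A_le_cent L ha hx)))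
  have hiso : Cfsg.IsIsolatedInvolution a' := by
    refine ⟨by rw [Subgroup.orderOf_mk]; exact ha2, fun g hc => ?_⟩
    set b := g * a' * g⁻¹ with hb
    obtain ⟨T, hT⟩ := (((S.2.to_le L.setting.le).comap_of_injective M.subtype
      M.subtype_injective).comap_of_injective C.subtype C.subtype_injective).exists_le_sylow
    have hbC : b ∈ C := mem_centralizer_singleton_iff.2 hc.symm.eq
    obtain ⟨k, hk⟩ := Involution.exists_conj_mem_sylow T (t := (⟨b, hbC⟩ : ↥C))
      (by rw [Subgroup.orderOf_mk, hb, Involution.orderOf_conj, Subgroup.orderOf_mk]; exact ha2)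
    set T' := ((T : Subgroup ↥C).map C.subtype).map M.subtype
    have hAT' : A ≤ T' := fun x hx =>
      ⟨⟨x, hAM hx⟩, ⟨⟨_, hAC x hx (hAM hx)⟩, hT (mem_subgroupOf.2 (mem_subgroupOf.2 hx)), rfl⟩, rfl⟩
    have hkb : (((k : ↥M) * g : ↥M) : G) * a * (((k : ↥M) * g : ↥M) : G)⁻¹ ∈ T' := by
      refine ⟨(k : ↥M) * b * (k : ↥M)⁻¹, ⟨_, hk, rfl⟩, ?_⟩
      simp [hb, mul_assoc]
      rfl
    have hA' := mem_A_of_sq L ((T.2.map _).map _) hAT' hkb (by
      rw [show ∀ u : G, u * a * u⁻¹ * (u * a * u⁻¹) = u * (a * a) * u⁻¹ from fun u => by group,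
        L.setting.sq ha]
      group)
    have he := hno _ ((k : ↥M) * g).2 hA'
    have he' : (k : ↥M) * b * (k : ↥M)⁻¹ = a' := Subtype.ext ((show (((k : ↥M) * b * (k : ↥M)⁻¹ : ↥M) : G) =
      (((k : ↥M) * g : ↥M) : G) * a * (((k : ↥M) * g : ↥M) : G)⁻¹ by simp [hb, mul_assoc]; rfl).trans he)
    calc b = (k : ↥M)⁻¹ * ((k : ↥M) * b * (k : ↥M)⁻¹) * (k : ↥M) := by group
      _ = (k : ↥M)⁻¹ * (a' * (k : ↥M)) := by rw [he', mul_assoc]
      _ = a' := by rw [← mem_centralizer_singleton_iff.1 k.2, inv_mul_cancel_left]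
  set O := Cfsg.oddCore ↥M
  have hOodd : ¬ 2 ∣ Nat.card ↥O := Cores.not_dvd_card_pPrimeCore
  haveI : O.Normal := Cores.pPrimeCore_normal 2 _
  have hz : IsPGroup 2 ↥(zpowers a') := IsPGroup.of_card (n := 1)
    (by rw [Nat.card_zpowers, pow_one, Subgroup.orderOf_mk]; exact ha2)
  haveI : Group.IsSolvable ↥C := by
    haveI := L.cent_solvable a ha ha1
    exact Group.isSolvable_of_isSolvable_injective
      (f := (M.subtype.comp C.subtype).codRestrict (centralizer ({a} : Set G)) fun x =>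
        mem_centralizer_singleton_iff.2 (congrArg Subtype.val (mem_centralizer_singleton_iff.1 x.2)))
      fun x y hxy => by
        have h' := congrArg Subtype.val hxy
        exact Subtype.ext (Subtype.ext h')
  haveI : Group.IsSolvable (↥M ⧸ O) := by
    refine Group.isSolvable_of_surjective (f := (QuotientGroup.mk' O).comp C.subtype) fun q => ?_
    obtain ⟨g, rfl⟩ := QuotientGroup.mk'_surjective O q
    have hstar := ZStar.zStar_of_brauerSuzuki ZStarPrimePower.uniqueInvolutionZStar_proved hiso g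
    obtain ⟨o, ho, hog⟩ := Constrained.exists_mul_mem_centralizer (O := O) hOodd hz (x := g) (by
      rintro _ ⟨i, rfl⟩
      refine (QuotientGroup.eq_one_iff _).1 (show QuotientGroup.mk' O (g * a' ^ i * g⁻¹ * (a' ^ i)⁻¹) = 1 from ?_)
      have hc : Commute (QuotientGroup.mk' O a') (QuotientGroup.mk' O g) := by
        have h1 : QuotientGroup.mk' O (a' * g * a'⁻¹ * g⁻¹) = 1 := (QuotientGroup.eq_one_iff _).2 hstar
        rw [map_mul, map_mul, map_mul, map_inv, map_inv, mul_inv_eq_one] at h1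
        exact mul_inv_eq_iff_eq_mul.1 h1
      rw [map_mul, map_mul, map_mul, map_inv, map_inv, map_zpow, ← (hc.zpow_left i).eq,
        mul_inv_cancel_right, mul_inv_cancel])
    refine ⟨⟨o * g, mem_centralizer_singleton_iff.2
      (mem_centralizer_iff.1 hog a' (mem_zpowers a')).symm⟩, ?_⟩
    show QuotientGroup.mk' O (o * g) = _
    rw [map_mul, show QuotientGroup.mk' O o = 1 from (QuotientGroup.eq_one_iff o).2 ho, one_mul]
  refine hns ((Group.isSolvable_iff_subgroup_quotient O).2 ⟨?_, inferInstance⟩)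
  exact S0205.result (Nat.odd_iff.2 (by rwa [← Nat.two_dvd_ne_zero]))

/-- A normal subgroup of even order of a nonsolvable subgroup over `A` contains `A`. -/
theorem le_of_even_normal {M : Subgroup G} (hAM : A ≤ M) (hns : ¬ Group.IsSolvable ↥M)
    (N : Subgroup ↥M) [hN : N.Normal] (h2 : 2 ∣ Nat.card ↥N) :
    ∀ v : ↥M, (v : G) ∈ A → v ∈ N := by
  haveI : Fact (Nat.Prime 2) := ⟨Nat.prime_two⟩
  obtain ⟨x, hx⟩ := exists_prime_orderOf_dvd_card' (G := ↥N) 2 h2
  obtain ⟨T, hT⟩ := ((S.2.to_le L.setting.le).comap_subtype (K := M)).exists_le_sylow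
  obtain ⟨g, hg⟩ := Involution.exists_conj_mem_sylow T (t := (x : ↥M))
    (by rw [orderOf_coe]; exact hx)
  set z := g * x * g⁻¹
  have hzN : z ∈ N := hN.conj_mem _ x.2 g
  have hz2 : orderOf z = 2 := by rw [Involution.orderOf_conj, orderOf_coe]; exact hx
  have hzA : (z : G) ∈ A := mem_A_of_sq L (T.2.map M.subtype)
    (fun a ha => ⟨⟨a, hAM ha⟩, hT (mem_subgroupOf.2 ha), rfl⟩) ⟨z, hg, rfl⟩
    (by rw [← Subgroup.coe_mul, Involution.mul_self hz2, Subgroup.coe_one])
  have hz1 : (z : G) ≠ 1 := fun e => Involution.ne_one hz2 (Subtype.ext e)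
  have hcl : ∀ (u : ↥M) (m : G) (hm : m ∈ M) (v : ↥M), u ∈ N → (v : G) = m * u * m⁻¹ → v ∈ N :=
    fun u m hm v hu he => by
      rw [show v = ⟨m, hm⟩ * u * ⟨m, hm⟩⁻¹ from Subtype.ext he]
      exact hN.conj_mem _ hu _
  obtain ⟨m, hm, hmA, hmz⟩ := exists_conj_of_not_solvable L hAM hns hzA hz1
  have hw : (⟨_, hAM hmA⟩ : ↥M) ∈ N := hcl z m hm _ hzN rfl
  intro v hv
  rcases eq_or_ne (v : G) 1 with e | hv1
  · rw [show v = 1 from Subtype.ext e]; exact N.one_mem
  rcases eq_or_ne (v : G) z with e | hvz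
  · rwa [show v = z from Subtype.ext e]
  rcases eq_or_ne (v : G) (m * z * m⁻¹) with e | hvw
  · rw [show v = ⟨_, hAM hmA⟩ from Subtype.ext e]; exact hw
  obtain ⟨k, hk, hkA, hkv⟩ := exists_conj_of_not_solvable L hAM hns hv hv1
  have hk1 : k * (v : G) * k⁻¹ ≠ 1 := fun e => hv1 (conj_eq_one_iff.1 e)
  have hin : (⟨_, hAM hkA⟩ : ↥M) ∈ N := by
    rcases L.setting.eq_or_eq_or_eq hzA hmA hv hz1 (fun e => hz1 (conj_eq_one_iff.1 e)) hv1 hmz.symm
      hvw.symm hvz.symm hkA hk1 with e | e | e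
    · rw [show (⟨_, hAM hkA⟩ : ↥M) = z from Subtype.ext e]; exact hzN
    · rw [show (⟨_, hAM hkA⟩ : ↥M) = ⟨_, hAM hmA⟩ from Subtype.ext e]; exact hw
    · exact absurd e hkv
  exact hcl _ k⁻¹ (inv_mem hk) v hin (by show (v : G) = k⁻¹ * (k * v * k⁻¹) * k⁻¹⁻¹; group)

/-- Constrained with solvable core if `A` moves a `p`-subgroup of the odd core. -/
theorem good_of_moved [Fact p.Prime] (hp2 : p ≠ 2) {H P : Subgroup G} (hAH : A ≤ H)
    (hns : ¬ Group.IsSolvable ↥H) (hP : IsPGroup p ↥P) (hPO : P ≤ oddPart H)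
    (hPn : A ≤ normalizer (P : Set G)) (hmv : ∃ v ∈ A, ∃ y ∈ P, v * y ≠ y * v) :
    Cfsg.IsPConstrained p ↥H ∧ Group.IsSolvable (Cfsg.pPrimeCore p ↥H) := by
  haveI : Fact (Nat.Prime 2) := ⟨Nat.prime_two⟩
  haveI := Cores.pPrimeCore_normal p ↥H
  haveI := Cores.pPrimeCore_normal 2 ↥H
  obtain ⟨v, hvA, y, hyP, hne⟩ := hmv
  have hPH : P ≤ H := hPO.trans (oddPart_le H)
  set vH : ↥H := ⟨v, hAH hvA⟩
  set yH : ↥H := ⟨y, hPH hyP⟩
  have key : vH * yH * vH⁻¹ * yH⁻¹ ∉ Cfsg.pPrimeCore p ↥H := by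
    intro hc
    refine hne (mul_inv_eq_iff_eq_mul.1 (mul_inv_eq_one.1 (Coprime.eq_one_of_mem_of_mem
      (A := P) (K := (Cfsg.pPrimeCore p ↥H).map H.subtype) ?_ ?_ ⟨_, hc, rfl⟩)))
    · rw [Cores.card_map_subtype]
      obtain ⟨k, hk⟩ := hP.exists_card_eq
      rw [hk]
      exact ((Cores.coprime_card_pPrimeCore p).symm).pow_left _
    · exact mul_mem ((mem_normalizer_iff.1 (hPn hvA) y).1 hyP) (inv_mem hyP)
  refine ⟨?_, S0205.result ?_⟩
  swap
  · by_contra hodd
    rw [Nat.not_odd_iff_even, even_iff_two_dvd] at hodd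
    have hv := le_of_even_normal L hAH hns _ hodd vH hvA
    refine key ?_
    rw [show vH * yH * vH⁻¹ * yH⁻¹ = vH * (yH * vH⁻¹ * yH⁻¹) by group]
    exact mul_mem hv ((inferInstance : (Cfsg.pPrimeCore p ↥H).Normal).conj_mem _ (inv_mem hv) _)
  rw [Constrained.isPConstrained_iff]
  set O1 := Cfsg.pPrimeCore p ↥H
  set q := QuotientGroup.mk' O1 with hq
  set O2 := Cfsg.pPrimeCore 2 ↥H with hO2
  haveI : (O2.map q).Normal := (inferInstance : O2.Normal).map q (QuotientGroup.mk'_surjective O1)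
  haveI := Cores.pCore_normal p (↥H ⧸ O1)
  set R := Cfsg.pCore p (↥H ⧸ O1) ⊓ O2.map q with hR
  have hodd2 : Odd (Nat.card ↥O2) := Nat.not_even_iff_odd.1 fun e =>
    Cores.not_dvd_card_pPrimeCore (p := 2) (G := ↥H) (even_iff_two_dvd.1 e)
  haveI : Group.IsSolvable ↥O2 := S0205.result hodd2
  haveI : Group.IsSolvable ↥(O2.map q) := Group.isSolvable_of_surjective (q.subgroupMap_surjective O2)
  have hbot : Cfsg.pPrimeCore p ↥(O2.map q) = ⊥ := by
    refine (map_eq_bot_iff_of_injective _ (O2.map q).subtype_injective).1 ?_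
    rw [Cores.pPrimeCore_map_subtype, Cores.pPrimeCore_quotient_self, bot_inf_eq]
  have hself : ∀ z ∈ O2.map q, z ∈ centralizer (R : Set (↥H ⧸ O1)) → z ∈ R := by
    intro z hz hzc
    have h1 : (⟨z, hz⟩ : O2.map q) ∈ centralizer (Cfsg.pCore p (O2.map q) : Set (O2.map q)) :=
      mem_centralizer_iff.2 fun w hw => Subtype.ext (mem_centralizer_iff.1 hzc (w : ↥H ⧸ O1)
        (hR ▸ Cores.pCore_map_subtype (O2.map q) p ▸ mem_map_of_mem (O2.map q).subtype hw))
    rw [hR, ← Cores.pCore_map_subtype]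
    exact mem_map_of_mem (O2.map q).subtype (SylowLift.centralizer_pCore_le_of_solvable hbot h1)
  have hPc : centralizer (Cfsg.pCore p (↥H ⧸ O1) : Set (↥H ⧸ O1)) ≤ centralizer (R : Set (↥H ⧸ O1)) :=
    centralizer_le inf_le_left
  set M := (centralizer (Cfsg.pCore p (↥H ⧸ O1) : Set (↥H ⧸ O1))).comap q with hM
  haveI : M.Normal := inferInstance
  have hModd : Odd (Nat.card ↥M) := by
    by_contra hodd
    rw [Nat.not_odd_iff_even, even_iff_two_dvd] at hodd
    have hvM : vH ∈ M := le_of_even_normal L hAH hns M hodd vH hvA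
    have hord : (orderOf (q vH)).Coprime p := by
      refine Nat.Coprime.coprime_dvd_left (orderOf_map_dvd q vH) ?_
      rw [Subgroup.orderOf_mk]
      refine Nat.Coprime.coprime_dvd_left (orderOf_dvd_of_pow_eq_one
        (by rw [pow_two]; exact L.setting.sq hvA)) ?_
      exact Nat.coprime_two_left.2 ((Fact.out : p.Prime).odd_of_ne_two hp2)
    set P' := (P.subgroupOf H).map q with hP'
    have hP'O : P' ≤ O2.map q := map_mono fun z hz => by
      obtain ⟨z', hz', he⟩ := hPO (mem_subgroupOf.1 hz)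
      exact (Subtype.ext he : z' = z) ▸ hz'
    have hQp : IsPGroup p (P' ⊔ R : Subgroup (↥H ⧸ O1)) :=
      (hP.comap_subtype.map q).to_sup_of_normal_right ((Cores.isPGroup_pCore p _).to_le inf_le_left)
    have hvP : q vH ∈ normalizer (P' : Set (↥H ⧸ O1)) := by
      refine le_normalizer_map q (mem_map_of_mem q (Coprime.mem_normalizer_of_forall fun z hz => ?_))
      exact (mem_normalizer_iff.1 (hPn hvA) (z : G)).1 hz
    have hvn : q vH ∈ normalizer ((P' ⊔ R : Subgroup (↥H ⧸ O1)) : Set (↥H ⧸ O1)) := by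
      refine normalizer_inf_le_sup P' R ⟨hvP, ?_⟩
      rw [normalizer_eq_top]
      exact mem_top _
    have hc := Components.mem_centralizer_of_mem_centralizer ((Cores.isPGroup_pCore p _).to_le inf_le_left) hQp
      ((le_sup_right : R ≤ P' ⊔ R).trans le_normalizer) hord hvn (hPc hvM) fun w hw hwR => by
        exact (mem_centralizer_iff.1 (hPc hvM) w (hself w (sup_le hP'O inf_le_right hw) hwR)).symm
    have h3 := mem_centralizer_iff.1 hc (q yH) (mem_sup_left (mem_map_of_mem q (mem_subgroupOf.2 hyP)))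
    refine key ((QuotientGroup.eq_one_iff _).1 (show q (vH * yH * vH⁻¹ * yH⁻¹) = 1 from ?_))
    rw [map_mul, map_mul, map_mul, map_inv, map_inv, ← h3]
    group
  have hMO : M ≤ O2 := Cores.le_pPrimeCore inferInstance (Nat.coprime_two_right.2 hModd)
  intro z hz
  obtain ⟨m, rfl⟩ := QuotientGroup.mk'_surjective O1 z
  exact (hself _ (mem_map_of_mem q (hMO hz)) (hPc hz)).1

/-- With Sylow 2-subgroup `A`: of two torus components in one `p`-group one lies in the core. -/
theorem core_of_pair (hp : p.Prime) (hp2 : p ≠ 2) {H : Subgroup G} (hAH : A ≤ H)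
    (hns : ¬ Group.IsSolvable ↥H) (hsyl : ∀ T : Subgroup G, IsPGroup 2 ↥T → A ≤ T → T ≤ H → T = A)
    {R : Subgroup G} (hR : IsPGroup p ↥R) (hRH : R ≤ H) {a b α β : G} (ha : a ∈ A) (hb : b ∈ A)
    (ha1 : a ≠ 1) (hb1 : b ≠ 1) (hab : a ≠ b) (hα : α ∈ R) (hβ : β ∈ R) (hαa : α * a = a * α)
    (hαb : b * α * b⁻¹ = α⁻¹) (hβa : a * β * a⁻¹ = β⁻¹) :
    α ∈ oddPart H ∨ β ∈ oddPart H := by
  classical
  haveI : Fact (Nat.Prime 2) := ⟨Nat.prime_two⟩
  obtain ⟨T, hT⟩ := ((S.2.to_le L.setting.le).comap_subtype (K := H)).exists_le_sylow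
  have hTA : (T : Subgroup ↥H).map H.subtype = A :=
    hsyl _ (T.2.map _) (fun x hx => ⟨⟨x, hAH hx⟩, hT (mem_subgroupOf.2 hx), rfl⟩) (map_subtype_le _)
  have hTc : Nat.card ↥(T : Subgroup ↥H) = 4 := by
    rw [← L.setting.card, ← hTA, Cores.card_map_subtype]
  have hTsq : ∀ x ∈ (T : Subgroup ↥H), x * x = 1 := fun x hx =>
    Subtype.ext (L.setting.sq (hTA ▸ mem_map_of_mem H.subtype hx))
  have hexp : ∀ Q : Subgroup ↥H, IsPGroup 2 ↥Q → ∀ x ∈ Q, x * x = 1 := by
    intro Q hQ x hx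
    obtain ⟨U, hU⟩ := hQ.exists_le_sylow
    obtain ⟨g, hg⟩ := MulAction.exists_smul_eq ↥H U T
    have h1 := hTsq (g * x * g⁻¹) (by rw [← hg, Sylow.coe_subgroup_smul]; exact conj_smul_mem (hU hx))
    rw [show g * x * g⁻¹ * (g * x * g⁻¹) = g * (x * x) * g⁻¹ by group] at h1
    exact conj_eq_one_iff.1 h1
  have h8 : ¬ 8 ∣ Nat.card ↥H := fun h => by
    have := T.pow_dvd_card_of_pow_dvd_card (n := 3) (by simpa using h)
    rw [hTc] at this
    norm_num at this
  obtain ⟨F, _, _, hq, hq3, K, hKn, -, ⟨e⟩⟩ : IsL2Like ↥H :=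
    isL2Like_of_klein h8 hexp (fun L' _ _ hs' _ hna' P hP' => kleinGW L' hs' hna' P hP') hns
  let ι : PSL2.PSL2 F →* ↥H ⧸ Cfsg.oddCore ↥H := K.subtype.comp e.symm.toMonoidHom
  set f := QuotientGroup.mk' (Cfsg.oddCore ↥H)
  haveI : (Cfsg.oddCore ↥H).Normal := Cores.pPrimeCore_normal 2 _
  have hfs : Function.Surjective f := QuotientGroup.mk'_surjective _
  set T' := T.mapSurjective hfs
  have hT' : (T' : Subgroup (↥H ⧸ Cfsg.oddCore ↥H)) = (T : Subgroup ↥H).map f := Sylow.coe_mapSurjective hfs T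
  set t : ↥H := ⟨a, hAH ha⟩
  set r : ↥H := ⟨b, hAH hb⟩
  have hmemT : ∀ x : ↥H, x ∈ (T : Subgroup ↥H) ↔ (x : G) ∈ A := fun x => by
    rw [← hTA]
    exact ⟨fun hx => ⟨x, hx, rfl⟩, fun ⟨y, hy, he⟩ => (Subtype.ext he : y = x) ▸ hy⟩
  have hinj : ∀ x : ↥H, (x : G) ∈ A → f x = 1 → x = 1 := fun x hx h1 => by
    have h2 : orderOf x ∣ 2 := orderOf_dvd_of_pow_eq_one (by rw [pow_two, hTsq x ((hmemT x).2 hx)])
    have h3 : orderOf x ∣ Nat.card ↥(Cfsg.oddCore ↥H) :=
      Subgroup.orderOf_dvd_natCard _ ((QuotientGroup.eq_one_iff x).1 h1)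
    exact orderOf_eq_one_iff.1 (Nat.eq_one_of_dvd_coprimes
      ((Nat.prime_two.coprime_iff_not_dvd).2 Cores.not_dvd_card_pPrimeCore) h2 h3)
  have hcomm : Commute t r := Subtype.ext (L.setting.commute ha (A_le_S L hb))
  have hfour : ∀ x : ↥H, (x : G) ∈ A → x = 1 ∨ x = t ∨ x = r ∨ x = t * r := fun x hx => by
    rcases eq_or_ne (x : G) 1 with e' | hx1
    · exact Or.inl (Subtype.ext e')
    have hab1 : a * b ≠ 1 := fun e => hab (by
      rw [eq_inv_of_mul_eq_one_left e, inv_eq_of_mul_eq_one_right (L.setting.sq hb)])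
    rcases L.setting.eq_or_eq_or_eq ha hb (A.mul_mem ha hb) ha1 hb1 hab1 hab
      (fun e => ha1 (mul_eq_right.1 e.symm)) (fun e => hb1 (mul_eq_left.1 e.symm)) hx hx1 with e' | e' | e'
    exacts [Or.inr (Or.inl (Subtype.ext e')), Or.inr (Or.inr (Or.inl (Subtype.ext e'))),
      Or.inr (Or.inr (Or.inr (Subtype.ext e')))]
  have hcl : closure ({f t, f r} : Set (↥H ⧸ Cfsg.oddCore ↥H)) = (T' : Subgroup _) := by
    refine le_antisymm ?_ ?_
    · rw [closure_le]
      rintro w (rfl | rfl)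
      exacts [hT' ▸ ⟨t, (hmemT t).2 ha, rfl⟩, hT' ▸ ⟨r, (hmemT r).2 hb, rfl⟩]
    · rw [hT']
      rintro _ ⟨x, hx, rfl⟩
      rcases hfour x ((hmemT x).1 hx) with rfl | rfl | rfl | rfl
      · rw [map_one]; exact one_mem _
      · exact subset_closure (Set.mem_insert _ _)
      · exact subset_closure (Set.mem_insert_of_mem _ rfl)
      · rw [map_mul]
        exact mul_mem (subset_closure (Set.mem_insert _ _)) (subset_closure (Set.mem_insert_of_mem _ rfl))
  have E : L2.Embedded ι (f t) (f r) :=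
    { inj := K.subtype_injective.comp e.symm.injective
      normal := by
        have hr : ι.range = K := by
          rw [MonoidHom.range_comp, MonoidHom.range_eq_top.2 e.symm.surjective, ← MonoidHom.range_eq_map,
            range_subtype]
        rw [hr]; exact hKn
      eight := by rwa [Nat.card_eq_fintype_card]
      ne_t := fun e' => ha1 (congrArg Subtype.val (hinj t ha e'))
      ne_r := fun e' => hb1 (congrArg Subtype.val (hinj r hb e'))
      ne := fun e' => hab (inv_mul_eq_one.1 (congrArg Subtype.val (hinj (t⁻¹ * r)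
        (A.mul_mem (A.inv_mem ha) hb) (by rw [map_mul, map_inv]; exact inv_mul_eq_one.2 e'))))
      sq_t := by rw [← map_mul, hTsq t ((hmemT t).2 ha), map_one]
      sq_r := by rw [← map_mul, hTsq r ((hmemT r).2 hb), map_one]
      comm := hcomm.map f
      mem := by
        rw [hcl, hT']
        rintro _ ⟨x, hx, rfl⟩
        rcases hfour x ((hmemT x).1 hx) with rfl | rfl | rfl | rfl
        exacts [Or.inl (map_one f), Or.inr (Or.inl rfl), Or.inr (Or.inr (Or.inl rfl)),
          Or.inr (Or.inr (Or.inr (map_mul f t r)))]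
      pgroup := hcl.symm ▸ T'.isPGroup'
      max := fun Q hQ hle => by
        rw [hcl] at hle ⊢
        exact T'.is_maximal' hQ hle }
  obtain ⟨n, hn⟩ := L2.exists_torusOrder F E.eight (by rwa [Nat.card_eq_fintype_card])
  have hX : IsPGroup p ↥((R.subgroupOf H).map f) := (hR.of_equiv (subgroupOfEquivOfLe hRH).symm).map _
  set α' : ↥H := ⟨α, hRH hα⟩
  set β' : ↥H := ⟨β, hRH hβ⟩
  rcases E.eq_one_of_pgroup hn hp hp2 hX (a := f α') (b := f β') ⟨α', mem_subgroupOf.2 hα, rfl⟩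
    ⟨β', mem_subgroupOf.2 hβ, rfl⟩ ((show Commute α' t from Subtype.ext hαa).map f)
    (by rw [← map_inv, ← map_mul, ← map_mul, ← map_inv]; exact congrArg f (Subtype.ext hαb))
    (by rw [← map_inv, ← map_mul, ← map_mul, ← map_inv]; exact congrArg f (Subtype.ext hβa)) with h1 | h1
  · exact Or.inl ⟨α', (QuotientGroup.eq_one_iff α').1 h1, rfl⟩
  · exact Or.inr ⟨β', (QuotientGroup.eq_one_iff β').1 h1, rfl⟩

/-- A moved invariant subgroup has a non-trivial inverted element centralising some involution. -/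
theorem exists_inverted {R : Subgroup G} (hR : A ≤ normalizer (R : Set G)) (hodd : Odd (Nat.card ↥R))
    {a : G} (ha : a ∈ A) (hmv : ∃ x ∈ R, a * x ≠ x * a) :
    ∃ b ∈ A, b ≠ 1 ∧ b ≠ a ∧ ∃ e ∈ R, e ≠ 1 ∧ e * b = b * e ∧ a * e * a⁻¹ = e⁻¹ := by
  obtain ⟨x, hx, hxa⟩ := hmv
  by_contra hno
  push Not at hno
  have hle : R ≤ centralizer ({a} : Set G) := le_of_fixed L hR hodd fun b hb hb1 z hz => by
    rcases eq_or_ne b a with rfl | hba
    · exact hz.2
    obtain ⟨c, hc, e, he, hca, hea, rfl, k, hk⟩ := exists_split (P := R ⊓ centralizer ({b} : Set G))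
      (hodd.of_dvd_nat (card_dvd_of_le inf_le_left)) (L.setting.sq ha)
      (fun w hw => (mem_normalizer_iff.1 (Signalizer.le_normalizer_inf hR
        ((A_le_cent L hb).trans le_normalizer) ha) w).1 hw) hz
    have he1 : e = 1 := by_contra fun h =>
      hno b hb hb1 hba e he.1 h (mem_centralizer_singleton_iff.1 he.2) hea
    rw [he1, mul_one]
    exact mem_centralizer_singleton_iff.2 (mul_inv_eq_iff_eq_mul.1 hca).symm
  exact hxa (mem_centralizer_singleton_iff.1 (hle hx)).symm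

/-- An element inverted by an involution of `A` and not trivial is not centralised by it. -/
theorem ne_of_inverted {b e : G} (hodd : Odd (orderOf e)) (he1 : e ≠ 1) (he : b * e * b⁻¹ = e⁻¹) :
    b * e ≠ e * b := by
  intro h
  rw [h, mul_inv_cancel_right] at he
  have h2 : e * e = 1 := by nth_rw 2 [he]; exact mul_inv_cancel e
  refine he1 (orderOf_eq_one_iff.1 (Nat.eq_one_of_dvd_coprimes (Nat.coprime_two_right.2 hodd) dvd_rfl
    (orderOf_dvd_of_pow_eq_one (by rw [pow_two]; exact h2))))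

/-- The centraliser of a `p`-element of `C(A)` moved by every involution through a `p`-subgroup. -/
theorem good_of_fixed [Fact p.Prime] (hp2 : p ≠ 2) {H R Q : Subgroup G} (hH : H ≠ ⊤) (hQ : IsPGroup 2 ↥Q)
    (hAQ : A ≤ Q) (hQH : Q ≤ H) (hR : IsPGroup p ↥R) (hRH : R ≤ H) (hQR : Q ≤ normalizer (R : Set G))
    (hmv : ∀ v ∈ A, v ≠ 1 → ∃ y ∈ R, v * y ≠ y * v) (hns : ¬ Group.IsSolvable ↥H)
    (hsyl : Q ≤ A → ∀ T : Subgroup G, IsPGroup 2 ↥T → A ≤ T → T ≤ H → T = A) :
    Cfsg.IsPConstrained p ↥H ∧ Group.IsSolvable (Cfsg.pPrimeCore p ↥H) := by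
  have hodd := odd_card_of_isPGroup Fact.out hp2 hR
  have hAH : A ≤ H := hAQ.trans hQH
  have hAR : A ≤ normalizer (R : Set G) := hAQ.trans hQR
  have hAO : A ≤ normalizer (oddPart H : Set G) := hAH.trans (le_normalizer_oddPart H)
  refine good_of_moved L hp2 hAH hns (P := R ⊓ oddPart H) (hR.to_le inf_le_left) inf_le_right
    (Signalizer.le_normalizer_inf hAR hAO) ?_
  obtain ⟨a, ha, ha1⟩ := exists_ne_one L
  by_cases hQA : Q ≤ A
  swap
  · have hle : R ≤ oddPart H := L.odd_le H Q R hH hQ hAQ hQH hQA hRH hodd hQR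
    obtain ⟨y, hy, hya⟩ := hmv a ha ha1
    exact ⟨a, ha, y, ⟨hy, hle hy⟩, hya⟩
  obtain ⟨b, hb, hb1, hba, e, he, he1, heb, hea⟩ := exists_inverted L hAR hodd ha (hmv a ha ha1)
  obtain ⟨d, hd, hd1, hdb, α, hα, hα1, hαd, hαb⟩ := exists_inverted L hAR hodd hb (hmv b hb hb1)
  have hodd' : ∀ z ∈ R, Odd (orderOf z) := fun z hz => hodd.of_dvd_nat (orderOf_dvd_natCard R hz)
  rcases core_of_pair L Fact.out hp2 hAH hns (hsyl hQA) hR hRH hd hb hd1 hb1 hdb hα he hαd hαb
    (show d * e * d⁻¹ = e⁻¹ by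
      rcases eq_or_ne d a with rfl | hda
      · exact hea
      have hm : d = a * b := by
        have hab1 : a * b ≠ 1 := fun h => hba (by
          rw [eq_inv_of_mul_eq_one_left h, inv_eq_of_mul_eq_one_right (L.setting.sq hb)])
        rcases L.setting.eq_or_eq_or_eq ha hb (A.mul_mem ha hb) ha1 hb1 hab1 hba.symm
          (fun h => ha1 (mul_eq_right.1 h.symm)) (fun h => hb1 (mul_eq_left.1 h.symm)) hd hd1 with h | h | h
        exacts [absurd h hda, absurd h hdb, h]
      rw [hm, show a * b * e * (a * b)⁻¹ = a * (b * e * b⁻¹) * a⁻¹ by group,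
        conj_eq_self_of_commute heb.symm, hea]) with h | h
  · exact ⟨b, hb, α, ⟨hα, h⟩, ne_of_inverted L (hodd' α hα) hα1 hαb⟩
  · exact ⟨a, ha, e, ⟨he, h⟩, ne_of_inverted L (hodd' e he) he1 hea⟩

/-- Transport of the conclusion along conjugation. -/
theorem good_conj [Fact p.Prime] {g x : G}
    (h : Cfsg.IsPConstrained p ↥(centralizer ({g * x * g⁻¹} : Set G)) ∧
      Group.IsSolvable (Cfsg.pPrimeCore p ↥(centralizer ({g * x * g⁻¹} : Set G)))) :
    Cfsg.IsPConstrained p ↥(centralizer ({x} : Set G)) ∧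
      Group.IsSolvable (Cfsg.pPrimeCore p ↥(centralizer ({x} : Set G))) := by
  obtain ⟨hc, hs⟩ := h
  have hmapC : (centralizer ({x} : Set G)).map (MulAut.conj g).toMonoidHom =
      centralizer ({g * x * g⁻¹} : Set G) := GWKlein.map_conj_centralizer_singleton g x
  set e : ↥(centralizer ({x} : Set G)) ≃* ↥(centralizer ({g * x * g⁻¹} : Set G)) :=
    ((MulAut.conj g).subgroupMap _).trans (MulEquiv.subgroupCongr hmapC)
  refine ⟨Constrained.isPConstrained_congr e.symm hc, ?_⟩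
  rw [← Cores.pPrimeCore_map_mulEquiv e.symm p]
  haveI := hs
  exact Group.isSolvable_of_surjective
    (f := ((Cfsg.pPrimeCore p _).equivMapOfInjective e.symm.toMonoidHom e.symm.injective).toMonoidHom)
    ((Cfsg.pPrimeCore p _).equivMapOfInjective e.symm.toMonoidHom e.symm.injective).surjective

/-- The centraliser of an element of order `p` in `C(A)`, given a mixed class. -/
theorem good_of_centralizes [Fact p.Prime] (hp2 : p ≠ 2) {X : Subgroup G} (hX : Mixed S A p X) {x : G}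
    (hx : x ∈ centralizer (A : Set G)) (hxp : orderOf x = p) :
    Cfsg.IsPConstrained p ↥(centralizer ({x} : Set G)) ∧
      Group.IsSolvable (Cfsg.pPrimeCore p ↥(centralizer ({x} : Set G))) := by
  haveI : Fact (Nat.Prime 2) := ⟨Nat.prime_two⟩
  have hp : p.Prime := Fact.out
  set CA := centralizer (A : Set G)
  set W := CA ⊓ centralizer ({x} : Set G)
  have hAW : A ≤ W := le_inf ((A_le_S L).trans (S_le_cent_A L))
    (fun z hz => mem_centralizer_singleton_iff.2 (mem_centralizer_iff.1 hx z hz))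
  obtain ⟨T, hT⟩ := ((S.2.to_le L.setting.le).comap_subtype (K := W)).exists_le_sylow
  set Q := (T : Subgroup ↥W).map W.subtype
  have hAQ : A ≤ Q := fun z hz => ⟨⟨z, hAW hz⟩, hT (mem_subgroupOf.2 hz), rfl⟩
  have hQW : Q ≤ W := map_subtype_le _
  have hQmax : ∀ R : Subgroup G, IsPGroup 2 ↥R → R ≤ W → Nat.card ↥R ≤ Nat.card ↥Q := fun R hR hRW => by
    obtain ⟨R', hR'⟩ := (hR.comap_subtype (K := W)).exists_le_sylow
    calc Nat.card ↥R = Nat.card ↥(R.subgroupOf W) := (Cores.card_subgroupOf hRW).symm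
      _ ≤ Nat.card ↥(R' : Subgroup ↥W) := Subgroup.card_le_of_le hR'
      _ = Nat.card ↥Q := by rw [Cores.card_map_subtype, R'.card_eq_multiplicity, T.card_eq_multiplicity]
  have hQn : Q ≤ normalizer (zpowers x : Set G) := fun u hu => Coprime.mem_normalizer_of_forall fun z hz => by
    obtain ⟨i, rfl⟩ := hz
    refine ⟨i, ?_⟩
    show x ^ i = u * x ^ i * u⁻¹
    rw [((show Commute u x from (mem_centralizer_singleton_iff.1 (hQW hu).2)).zpow_right i).eq,
      mul_inv_cancel_right]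
  have hcard : Nat.card ↥(zpowers x ⊔ Q : Subgroup G) = p * Nat.card ↥Q := by
    rw [Coprime.card_sup_of_coprime hQn, Nat.card_zpowers, hxp]
    obtain ⟨k, hk⟩ := (T.2.map W.subtype).exists_card_eq
    rw [Nat.card_zpowers, hxp, hk]
    exact Nat.Coprime.pow_right k ((Nat.coprime_primes hp Nat.prime_two).2 hp2)
  obtain ⟨g, hg, X', hX', hgn⟩ := hX.exists_normalizing L hp hp2 (U := zpowers x ⊔ Q)
    (sup_le (zpowers_le.2 hx) (hQW.trans inf_le_left)) fun q hq hd => by
      rw [hcard] at hd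
      rcases (Nat.Prime.dvd_mul hq).1 hd with h1 | h1
      · exact Or.inr ((Nat.prime_dvd_prime_iff_eq hq hp).1 h1)
      · obtain ⟨k, hk⟩ := (T.2.map W.subtype).exists_card_eq
        rw [hk] at h1
        exact Or.inl ((Nat.prime_dvd_prime_iff_eq hq Nat.prime_two).1 (hq.dvd_of_dvd_pow h1))
  refine good_conj L (g := g) ?_
  set x' := g * x * g⁻¹ with hx'def
  have hx' : x' ∈ CA := mul_mem (mul_mem hg hx) (inv_mem hg)
  have hx'1 : x' ≠ 1 := fun e => hp.ne_one (by rw [← hxp, conj_eq_one_iff.1 e, orderOf_one])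
  set H := centralizer ({x'} : Set G) with hHdef
  by_cases hsol : Group.IsSolvable ↥H
  · haveI := hsol
    exact ⟨HallHigman.isPConstrained_of_isSolvable,
      Group.isSolvable_of_isSolvable_injective (Subgroup.subtype_injective (Cfsg.pPrimeCore p ↥H))⟩
  set Q' := (MulAut.conj g • Q : Subgroup G)
  have hgA : ∀ z ∈ A, g * z * g⁻¹ = z := fun z hz =>
    conj_eq_self_of_commute (mem_centralizer_iff.1 hg z hz).symm
  have hAQ' : A ≤ Q' := fun z hz => hgA z hz ▸ conj_smul_mem (hAQ hz)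
  have hQ'H : Q' ≤ H := by
    intro u hu
    rw [Coprime.mem_conj] at hu
    refine mem_centralizer_singleton_iff.2 ?_
    have h1 := mem_centralizer_singleton_iff.1 (hQW hu).2
    calc u * x' = g * (g⁻¹ * u * g * x) * g⁻¹ := by rw [hx'def]; group
      _ = g * (x * (g⁻¹ * u * g)) * g⁻¹ := by rw [h1]
      _ = x' * u := by rw [hx'def]; group
  have hQ'X : Q' ≤ normalizer (X' : Set G) := fun u hu => by
    rw [Coprime.mem_conj] at hu
    have h1 := hgn _ (mem_sup_right hu)
    rwa [show g * (g⁻¹ * u * g) * g⁻¹ = u by group] at h1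
  have hxX : x' ∈ normalizer (X' : Set G) := hgn x (mem_sup_left (mem_zpowers x))
  refine good_of_fixed L hp2 (centralizer_ne_top L hx'1) (Q := Q') (R := X' ⊓ H)
    (isPGroup_conj (T.2.map _) g) hAQ' hQ'H (hX'.max.1.1.to_le inf_le_left) inf_le_right
    (Signalizer.le_normalizer_inf hQ'X (hQ'H.trans le_normalizer)) (fun v hv hv1 => ?_) hsol
    (fun hle R hR hAR hRH => ?_)
  · by_contra hno
    push Not at hno
    obtain ⟨y, hy, hyv⟩ := hX'.moved v hv hv1
    refine hyv ?_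
    have hv2 : orderOf v = 2 := orderOf_eq_prime (by rw [pow_two, L.setting.sq hv]) hv1
    have hc := Components.mem_centralizer_of_mem_centralizer
      (IsPGroup.of_card (n := 1) (G := ↥(zpowers x')) (p := p)
        (by rw [Nat.card_zpowers, pow_one, hx'def, Involution.orderOf_conj, hxp]))
      hX'.max.1.1 (zpowers_le.2 hxX) (l := v)
      (by rw [hv2]; exact Nat.coprime_two_left.2 (hp.odd_of_ne_two hp2))
      (hX'.A_le_normalizer L hv)
      (by rintro _ ⟨i, rfl⟩; exact ((show Commute v x' from mem_centralizer_iff.1 hx' v hv).zpow_right i).symm.eq)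
      (fun z hz hzc => hno z ⟨hz, mem_centralizer_singleton_iff.2 (hzc x' (mem_zpowers x')).symm⟩)
    exact (hc y hy).symm
  · have hRCA := le_cent_A_of_two L hR hAR
    set R' := (MulAut.conj g⁻¹ • R : Subgroup G)
    have hR'W : R' ≤ W := by
      intro u hu
      rw [Coprime.mem_conj, inv_inv] at hu
      refine ⟨?_, mem_centralizer_singleton_iff.2 ?_⟩
      · have h1 : g⁻¹ * (g * u * g⁻¹) * g ∈ CA := mul_mem (mul_mem (inv_mem hg) (hRCA hu)) hg
        rwa [show g⁻¹ * (g * u * g⁻¹) * g = u by group] at h1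
      · have h1 := mem_centralizer_singleton_iff.1 (hRH hu)
        calc u * x = g⁻¹ * (g * u * g⁻¹ * x') * g := by rw [hx'def]; group
          _ = g⁻¹ * (x' * (g * u * g⁻¹)) * g := by rw [h1]
          _ = x * u := by rw [hx'def]; group
    refine (eq_of_le_of_card_ge hAR ?_).symm
    calc Nat.card ↥R = Nat.card ↥R' := (Coprime.card_conj g⁻¹ R).symm
      _ ≤ Nat.card ↥Q := hQmax R' (isPGroup_conj hR g⁻¹) hR'W
      _ = Nat.card ↥Q' := (Coprime.card_conj g Q).symm
      _ ≤ Nat.card ↥A := Subgroup.card_le_of_le hle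

/-- All `p`-locals are constrained if there is a mixed class. -/
theorem Mixed.pGood [Fact p.Prime] (hp2 : p ≠ 2) {X : Subgroup G} (hX : Mixed S A p X) : PGood G p := by
  haveI : Fact (Nat.Prime 2) := ⟨Nat.prime_two⟩
  refine pGood_of_centralizers fun x hxp => ?_
  set C := centralizer ({x} : Set G)
  by_cases hex : ∃ s ∈ C, ∃ t ∈ C, s * s = 1 ∧ t * t = 1 ∧ s ≠ 1 ∧ t ≠ 1 ∧ s * t = t * s ∧ s ≠ t
  swap
  · push Not at hex
    haveI := L.rank_one C fun s hs t ht h1 h2 h3 h4 h5 => hex s hs t ht h1 h2 h3 h4 h5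
    exact ⟨HallHigman.isPConstrained_of_isSolvable,
      Group.isSolvable_of_isSolvable_injective (Subgroup.subtype_injective (Cfsg.pPrimeCore p ↥C))⟩
  obtain ⟨s, hs, t, ht, hs2, ht2, hs1, ht1, hst, hne⟩ := hex
  have hs' : IsPGroup 2 ↥(zpowers s) := IsPGroup.of_card (n := 1) (by
    rw [Nat.card_zpowers, pow_one, orderOf_eq_prime (by rw [pow_two, hs2]) hs1])
  have ht' : IsPGroup 2 ↥(zpowers t) := IsPGroup.of_card (n := 1) (by
    rw [Nat.card_zpowers, pow_one, orderOf_eq_prime (by rw [pow_two, ht2]) ht1])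
  have hV : IsPGroup 2 ↥(zpowers s ⊔ zpowers t : Subgroup G) :=
    IsPGroup.to_sup_of_normal_right' hs' ht' (zpowers_le.2 (Coprime.mem_normalizer_of_forall
      (GWKlein.conj_zpowers_le (by rw [hst, mul_inv_cancel_right]; exact mem_zpowers t))))
  obtain ⟨R, hR⟩ := hV.exists_le_sylow
  obtain ⟨g, hg⟩ := MulAction.exists_smul_eq G R S
  have hm : ∀ z ∈ zpowers s ⊔ zpowers t, g * z * g⁻¹ ∈ (S : Subgroup G) := fun z hz => by
    rw [← hg, Sylow.coe_subgroup_smul]; exact conj_smul_mem (hR hz)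
  have hsA := conj_mem_A L (hm s (mem_sup_left (mem_zpowers s))) hs2
  have htA := conj_mem_A L (hm t (mem_sup_right (mem_zpowers t))) ht2
  refine good_conj L (g := g) (good_of_centralizes L hp2 hX (mem_centralizer_iff.2 fun z hz => ?_)
    (by rw [Involution.orderOf_conj]; exact hxp))
  have hcs : ∀ u ∈ C, Commute (g * u * g⁻¹) (g * x * g⁻¹) := fun u hu =>
    (show Commute u x from mem_centralizer_singleton_iff.1 hu).map (MulAut.conj g).toMonoidHom
  rcases eq_or_ne z 1 with rfl | hz1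
  · simp
  have hst1 : g * (s * t) * g⁻¹ ≠ 1 := fun e => hne (by
    rw [eq_inv_of_mul_eq_one_left (conj_eq_one_iff.1 e), inv_eq_of_mul_eq_one_right ht2])
  rcases L.setting.eq_or_eq_or_eq hsA htA
    (show g * (s * t) * g⁻¹ ∈ A by rw [← _root_.conj_mul]; exact A.mul_mem hsA htA)
    (fun e => hs1 (conj_eq_one_iff.1 e)) (fun e => ht1 (conj_eq_one_iff.1 e)) hst1
    (fun e => hne (mul_left_cancel (mul_right_cancel e)))
    (fun e => hs1 (mul_eq_right.1 (mul_left_cancel (mul_right_cancel e)).symm))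
    (fun e => ht1 (mul_eq_left.1 (mul_left_cancel (mul_right_cancel e)).symm)) hz hz1 with rfl | rfl | rfl
  exacts [(hcs s hs).eq, (hcs t ht).eq, (hcs _ (mul_mem hs ht)).eq]

end Local

end Cfsg.Agent.Goldschmidt.ThreeInv.Primes
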