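import Cfsg.Agent.EqLemmas
import Cfsg.Agent.Lib.Goldschmidt.ThreeInv.Primes.Centralizer
import Cfsg.Agent.Lib.GWKlein.Mixed
import Cfsg.Agent.Lib.PGroup.Critical
import Cfsg.Agent.Lib.PGroup.Omega

/-!
# Three involutions, section 1: no mixed class (owner: helper87)

* `Mixed.exists_omega` : the elements of order `p` of a critical subgroup
* `Mixed.exists_rank_three` : an elementary subgroup of order `p³` with one of order `p²` in some `C(a)`
* `Mixed.false` : a mixed class gives a strongly embedded subgroup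
-/

set_option autoImplicit false
set_option linter.style.haveILetI false
set_option linter.unusedSectionVars false

namespace Cfsg.Agent.Goldschmidt.ThreeInv.Primes

open Subgroup GWKlein
open scoped commutatorElement
open scoped Pointwise

universe u

variable {G : Type u} [Group G] [Finite G] {S : Sylow 2 G} {A : Subgroup G} {p : ℕ} [Fact p.Prime]

/-- Powers of one element are moved in the same way by conjugate elements. -/
theorem commute_of_zpowers {x s t w : G} (hs : s * x * s⁻¹ ∈ zpowers x) (ht : t * x * t⁻¹ ∈ zpowers x)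
    (hts : t * s * t⁻¹ = w * s) : w * x = x * w := by
  obtain ⟨i, hi⟩ := hs
  obtain ⟨j, hj⟩ := ht
  change x ^ i = s * x * s⁻¹ at hi
  change x ^ j = t * x * t⁻¹ at hj
  refine mul_inv_eq_iff_eq_mul.1 ?_
  set φ := (MulAut.conj s : MulAut G)
  have hsj : ∀ k : ℤ, s * x ^ k * s⁻¹ = x ^ (i * k) := fun k => by rw [← conj_zpow, ← hi, ← zpow_mul]
  have htk : ∀ k : ℤ, t * x ^ k * t⁻¹ = x ^ (j * k) := fun k => by rw [← conj_zpow, ← hj, ← zpow_mul]
  have hcomm : t * s * x * (t * s)⁻¹ = s * t * x * (s * t)⁻¹ := by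
    calc t * s * x * (t * s)⁻¹ = t * (s * x * s⁻¹) * t⁻¹ := by group
      _ = x ^ (j * i) := by rw [← hi, htk]
      _ = x ^ (i * j) := by rw [mul_comm]
      _ = s * (t * x * t⁻¹) * s⁻¹ := by rw [← hj, hsj]
      _ = s * t * x * (s * t)⁻¹ := by group
  have hw : w = t * s * (s * t)⁻¹ := by
    rw [mul_inv_rev, ← mul_assoc, hts, mul_inv_cancel_right]
  rw [hw]
  calc t * s * (s * t)⁻¹ * x * (t * s * (s * t)⁻¹)⁻¹
      = (t * s) * ((s * t)⁻¹ * x * (s * t)) * (t * s)⁻¹ := by group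
    _ = x := ?_
  set y := (s * t)⁻¹ * x * (s * t)
  have hy : y ∈ zpowers x := by
    have h2 : (zpowers x).map (MulAut.conj (s * t)).toMonoidHom ≤ zpowers x := by
      rintro _ ⟨z, ⟨k, rfl⟩, rfl⟩
      refine ⟨i * (j * k), ?_⟩
      show x ^ (i * (j * k)) = s * t * x ^ k * (s * t)⁻¹
      rw [← hsj, ← htk]; group
    have h3 := eq_of_le_of_card_ge h2 (card_map_of_injective (MulAut.conj (s * t)).injective).ge
    obtain ⟨z, hz, hzx⟩ := (h3.symm ▸ mem_zpowers x : x ∈ (zpowers x).map (MulAut.conj (s * t)).toMonoidHom)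
    change s * t * z * (s * t)⁻¹ = x at hzx
    rwa [show y = z from by rw [show y = (s * t)⁻¹ * x * (s * t) from rfl, ← hzx]; group]
  obtain ⟨k, hk⟩ := hy
  change x ^ k = y at hk
  calc t * s * y * (t * s)⁻¹ = (t * s * x * (t * s)⁻¹) ^ k := by rw [← hk, conj_zpow]
    _ = (s * t * x * (s * t)⁻¹) ^ k := by rw [hcomm]
    _ = s * t * y * (s * t)⁻¹ := by rw [conj_zpow, hk]
    _ = x := by
      show s * t * ((s * t)⁻¹ * x * (s * t)) * (s * t)⁻¹ = x
      group

section Local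

variable (L : OddLocal S A)
include L

/-- `A ≤ S` is made of commutators. -/
theorem exists_commutator {w : G} (hw : w ∈ A) :
    ∃ s ∈ (S : Subgroup G), ∃ t ∈ (S : Subgroup G), t * s * t⁻¹ = w * s := by
  haveI := L.simple
  obtain ⟨s, hs, hsA⟩ := Set.not_subset.1 (not_sylow_le L)
  obtain ⟨t, ht⟩ := L.setting.usylow.shape.exists_conj (s := ⟨s, hs⟩)
    (fun h => hsA ((L.setting.mem_center_iff _).1 h))
    ((L.setting.mem_center_iff ⟨w, A_le_S L hw⟩).2 hw)
  exact ⟨s, hs, t, t.2, congrArg Subtype.val ht⟩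

namespace Mixed

variable {X : Subgroup G} (hX : Mixed S A p X)
include hX

/-- The elements of order `p` of a critical subgroup of a mixed subgroup. -/
theorem exists_omega (hp2 : p ≠ 2) :
    ∃ D : Subgroup G, D ≤ X ∧ normalizer (X : Set G) ≤ normalizer (D : Set G) ∧ (∀ x ∈ D, x ^ p = 1) ∧
      (∀ x ∈ D, ∀ y ∈ D, ∀ z ∈ D, x * y * x⁻¹ * y⁻¹ * z = z * (x * y * x⁻¹ * y⁻¹)) ∧
      ∀ v ∈ A, v ≠ 1 → ∃ x ∈ D, v * x ≠ x * v := by
  have hp : p.Prime := Fact.out
  obtain ⟨K, hK⟩ := PGroup.exists_critical (p := p) (G := ↥X) hX.max.1.1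
  haveI := hK.char
  have hcent : ∀ a b : K, ⁅a, b⁆ ∈ Subgroup.center K := fun a b => Subgroup.mem_center_iff.2 fun c =>
    Subtype.ext (mem_centralizer_iff.1 (hK.comm_mem a a.2 b).2 c c.2)
  let W : Subgroup ↥X :=
    { carrier := {x | x ∈ K ∧ x ^ p = 1}
      one_mem' := ⟨K.one_mem, one_pow p⟩
      mul_mem' := fun {a b} ha hb => ⟨K.mul_mem ha.1 hb.1, by
        have h1 : (⟨b, hb.1⟩ : K) ^ p = 1 := Subtype.ext (by simpa using hb.2)
        have h2 : (⟨a, ha.1⟩ : K) ^ p = 1 := Subtype.ext (by simpa using ha.2)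
        have h3 := PGroup.mul_pow_classTwo hp hp2 hcent (x := (⟨a, ha.1⟩ : K))
          (y := (⟨b, hb.1⟩ : K)) (h1 ▸ one_mem _)
        rw [h1, h2, one_mul] at h3
        simpa using congrArg Subtype.val h3⟩
      inv_mem' := fun {a} ha => ⟨K.inv_mem ha.1, by rw [inv_pow, ha.2, inv_one]⟩ }
  refine ⟨W.map X.subtype, map_subtype_le _, fun n hn => Coprime.mem_normalizer_of_forall ?_, ?_, ?_, ?_⟩
  · rintro _ ⟨x, hx, rfl⟩
    let φ : MulAut ↥X := X.normalizerMonoidHom ⟨n, hn⟩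
    refine ⟨φ x, ⟨(PGroup.aut_mem_iff φ x).2 hx.1, ?_⟩, rfl⟩
    rw [← map_pow, hx.2, map_one]
  · rintro _ ⟨x, hx, rfl⟩
    rw [← map_pow, hx.2, map_one]
  · rintro _ ⟨x, hx, rfl⟩ _ ⟨y, hy, rfl⟩ _ ⟨z, hz, rfl⟩
    exact congrArg Subtype.val (mem_centralizer_iff.1 (hK.comm_mem x hx.1 y).2 z hz.1).symm
  · intro v hv hv1
    by_contra hno
    push Not at hno
    obtain ⟨x, hx, hxv⟩ := hX.moved v hv hv1
    let φ : MulAut ↥X := X.normalizerMonoidHom ⟨v, hX.A_le_normalizer L hv⟩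
    have hφ : φ = 1 := PGroup.aut_eq_one_of_fix_omega_critical hp2 hX.max.1.1
      ((Nat.coprime_two_left.2 (hp.odd_of_ne_two hp2)).coprime_dvd_left
        (orderOf_dvd_of_pow_eq_one (by
          rw [← map_pow, ← map_one X.normalizerMonoidHom]
          exact congrArg _ (Subtype.ext (show v ^ 2 = 1 by rw [pow_two, L.setting.sq hv])))))
      hK fun y hyK hyp => Subtype.ext (conj_eq_self_of_commute (hno (y : G) ⟨y, ⟨hyK, hyp⟩, rfl⟩))
    refine hxv ?_
    have h' := congrArg Subtype.val (DFunLike.congr_fun hφ (⟨x, hx⟩ : ↥X))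
    change v * x * v⁻¹ = x at h'
    exact mul_inv_eq_iff_eq_mul.1 h'

/-- An elementary subgroup of order `p³` with a subgroup of order `p²` centralised by an involution. -/
theorem exists_rank_three (hp2 : p ≠ 2) :
    ∃ u ∈ A, u ≠ 1 ∧ ∃ B E : Subgroup G, B ≤ E ∧ E ≤ X ∧ Cfsg.IsElementaryAbelian p E ∧
      Nat.card ↥B = p ^ 2 ∧ Nat.card ↥E = p ^ 3 ∧ B ≤ centralizer ({u} : Set G) := by
  have hp : p.Prime := Fact.out
  obtain ⟨D, hDX, hDn, hDp, hD2, hDm⟩ := hX.exists_omega L hp2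
  have hDo : IsPGroup p ↥D := hX.max.1.1.to_le hDX
  have hodd : Odd (Nat.card ↥D) := odd_card_of_isPGroup hp hp2 hDo
  have hSD : (S : Subgroup G) ≤ normalizer (D : Set G) := hX.max.1.2.trans hDn
  have hAD : A ≤ normalizer (D : Set G) := (A_le_S L).trans hSD
  have hodd' : ∀ x ∈ D, Odd (orderOf x) := fun x hx => hodd.of_dvd_nat (orderOf_dvd_natCard D hx)
  set Z := D ⊓ centralizer (D : Set G)
  have hZn : normalizer (X : Set G) ≤ normalizer (Z : Set G) := fun n hn =>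
    Coprime.mem_normalizer_of_forall fun z hz => by
      refine ⟨(mem_normalizer_iff.1 (hDn hn) z).1 hz.1, mem_centralizer_iff.2 fun y hy => ?_⟩
      have h1 : n⁻¹ * y * n ∈ D := by
        simpa using (mem_normalizer_iff.1 (inv_mem (hDn hn)) y).1 hy
      calc y * (n * z * n⁻¹) = n * (n⁻¹ * y * n * z) * n⁻¹ := by group
        _ = n * (z * (n⁻¹ * y * n)) * n⁻¹ := by rw [mem_centralizer_iff.1 hz.2 _ h1]
        _ = n * z * n⁻¹ * y := by group
  have build : ∀ u ∈ A, ∀ e₁ e₂ d : G, e₁ ∈ D → e₂ ∈ D → d ∈ D → e₁ ≠ 1 → e₂ ∉ zpowers e₁ →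
      Commute e₁ e₂ → Commute e₁ d → Commute e₂ d → e₁ * u = u * e₁ → e₂ * u = u * e₂ → d * u ≠ u * d →
      ∃ B E : Subgroup G, B ≤ E ∧ E ≤ X ∧ Cfsg.IsElementaryAbelian p E ∧
        Nat.card ↥B = p ^ 2 ∧ Nat.card ↥E = p ^ 3 ∧ B ≤ centralizer ({u} : Set G) := by
    intro u hu e₁ e₂ d he₁ he₂ hd h1 h2 h12 h1d h2d h1u h2u hdu
    obtain ⟨hB, hBc⟩ := elemAb_sup_zpowers (elemAb_zpowers (hDp e₁ he₁)) (hDp e₂ he₂)
      (by rintro _ ⟨i, rfl⟩; exact h12.zpow_left i) h2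
    set B := (zpowers e₁ ⊔ zpowers e₂ : Subgroup G)
    have hBu : B ≤ centralizer ({u} : Set G) := sup_le
      (zpowers_le.2 (mem_centralizer_singleton_iff.2 h1u)) (zpowers_le.2 (mem_centralizer_singleton_iff.2 h2u))
    have hBd : B ≤ centralizer ({d} : Set G) := sup_le
      (zpowers_le.2 (mem_centralizer_singleton_iff.2 h1d.eq))
      (zpowers_le.2 (mem_centralizer_singleton_iff.2 h2d.eq))
    obtain ⟨hE, hEc⟩ := elemAb_sup_zpowers hB (hDp d hd)
      (fun b hb => mem_centralizer_singleton_iff.1 (hBd hb))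
      (fun hdB => hdu (mem_centralizer_singleton_iff.1 (hBu hdB)))
    rw [Nat.card_zpowers, orderOf_eq_prime (hDp e₁ he₁) h1] at hBc
    refine ⟨B, B ⊔ zpowers d, le_sup_left,
      sup_le (sup_le (zpowers_le.2 (hDX he₁)) (zpowers_le.2 (hDX he₂))) (zpowers_le.2 (hDX hd)), hE,
      hBc.trans (pow_two p).symm, ?_, hBu⟩
    rw [hEc, hBc]; ring
  by_cases hZm : ∃ a ∈ A, ∃ z ∈ Z, a * z ≠ z * a
  · obtain ⟨a, ha, hz⟩ := hZm
    obtain ⟨u, hu, hu1, hua, e, heZ, he1, heu, hea⟩ := exists_inverted L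
      ((hX.A_le_normalizer L).trans hZn) (hodd.of_dvd_nat (card_dvd_of_le inf_le_left)) ha hz
    have ha1 : a ≠ 1 := by
      rintro rfl; obtain ⟨z, -, hza⟩ := hz; exact hza (by simp)
    refine ⟨u, hu, hu1, ?_⟩
    obtain ⟨e₂, ⟨he₂Z, he₂u, -⟩, he₂⟩ : ∃ f, (f ∈ Z ∧ f * u = u * f ∧ a * f * a⁻¹ = f⁻¹) ∧ f ∉ zpowers e := by
      by_contra hno
      push Not at hno
      obtain ⟨s, hs, t, ht, hts⟩ := exists_commutator L ha
      have hin : ∀ x ∈ (S : Subgroup G), x * e * x⁻¹ ∈ zpowers e := fun x hx => hno _ ⟨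
        (mem_normalizer_iff.1 (hZn (hX.max.1.2 hx)) e).1 heZ,
        by
          have hxu : x * u = u * x := (L.setting.commute hu hx).symm
          calc x * e * x⁻¹ * u = x * e * (x⁻¹ * u * x) * x⁻¹ := by group
            _ = x * (e * u) * x⁻¹ := by rw [show x⁻¹ * u * x = u by rw [mul_assoc, ← hxu, inv_mul_cancel_left]]; group
            _ = x * u * e * x⁻¹ := by rw [heu]; group
            _ = u * (x * e * x⁻¹) := by rw [hxu]; group,
        by
          have hxa : a * x = x * a := L.setting.commute ha hx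
          calc a * (x * e * x⁻¹) * a⁻¹ = (a * x) * e * (a * x)⁻¹ := by group
            _ = x * (a * e * a⁻¹) * x⁻¹ := by rw [hxa]; group
            _ = (x * e * x⁻¹)⁻¹ := by rw [hea]; group⟩
      exact ne_of_inverted L (hodd' e heZ.1) he1 hea (commute_of_zpowers (hin s hs) (hin t ht) hts)
    obtain ⟨m, hmS, hmX, hmu⟩ := hX.fused L hp hp2 hu hu1 ha ha1
    have hdZ : m * e * m⁻¹ ∈ Z := (mem_normalizer_iff.1 (hZn hmX) e).1 heZ
    have hcomm : ∀ x ∈ Z, ∀ y ∈ D, Commute x y := fun x hx y hy => (mem_centralizer_iff.1 hx.2 y hy).symm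
    refine build u hu e e₂ (m * e * m⁻¹) heZ.1 he₂Z.1 hdZ.1 he1 he₂ (hcomm e heZ _ he₂Z.1)
      (hcomm e heZ _ hdZ.1) (hcomm e₂ he₂Z _ hdZ.1) heu he₂u fun hdu => ?_
    have hda : a * (m * e * m⁻¹) = m * e * m⁻¹ * a := by
      rw [← hmu]
      calc m * u * m⁻¹ * (m * e * m⁻¹) = m * (u * e) * m⁻¹ := by group
        _ = m * (e * u) * m⁻¹ := by rw [heu]
        _ = m * e * m⁻¹ * (m * u * m⁻¹) := by group
    obtain ⟨hua', hwA, hw1⟩ : u ≠ a ∧ (m * a * m⁻¹) * (m * e * m⁻¹) * (m * a * m⁻¹)⁻¹ = (m * e * m⁻¹)⁻¹ ∧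
        m * e * m⁻¹ ≠ 1 := by
      refine ⟨hua, ?_, fun h => he1 (conj_eq_one_iff.1 h)⟩
      rw [show (m * a * m⁻¹) * (m * e * m⁻¹) * (m * a * m⁻¹)⁻¹ = m * (a * e * a⁻¹) * m⁻¹ by group, hea]
      group
    have hab1 : u * a ≠ 1 := fun h => hua' (by
      rw [eq_inv_of_mul_eq_one_left h, inv_eq_of_mul_eq_one_right (L.setting.sq ha)])
    refine ne_of_inverted L (hodd' _ hdZ.1) hw1 hwA ?_
    have hmaA : ∀ z ∈ A, z * (m * e * m⁻¹) = m * e * m⁻¹ * z := fun z hz => by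
      rcases eq_or_ne z 1 with rfl | hz1
      · simp
      rcases L.setting.eq_or_eq_or_eq hu ha (A.mul_mem hu ha) hu1 ha1 hab1 hua'
        (fun h => hu1 (mul_eq_right.1 h.symm)) (fun h => ha1 (mul_eq_left.1 h.symm)) hz hz1 with rfl | rfl | rfl
      exacts [hdu.symm, hda,
        ((show Commute u (m * e * m⁻¹) from hdu.symm).mul_left hda).eq]
    exact hmaA _ (L.setting.conj_mem hmS ha)
  · push Not at hZm
    obtain ⟨a, ha, ha1⟩ := exists_ne_one L
    obtain ⟨u, hu, hu1, hua, e, heD, he1, heu, hea⟩ := exists_inverted L hAD hodd ha (hDm a ha ha1)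
    refine ⟨u, hu, hu1, ?_⟩
    obtain ⟨z, hz, hz1, -⟩ := PLocal.exists_central_of_order_p hDo (fun h => he1 (mem_bot.1 (h ▸ heD)))
    have hzA : ∀ v ∈ A, v * z = z * v := fun v hv => hZm v hv z hz
    obtain ⟨m, hm, hmX, hmu⟩ := hX.fused L hp hp2 hu hu1 ha ha1
    set d := m * e * m⁻¹
    have hdD : d ∈ D := (mem_normalizer_iff.1 (hDn hmX) e).1 heD
    have hda : a * d * a⁻¹ = d := by
      rw [← hmu]
      calc m * u * m⁻¹ * (m * e * m⁻¹) * (m * u * m⁻¹)⁻¹ = m * (u * e) * u⁻¹ * m⁻¹ := by group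
        _ = m * e * m⁻¹ := by rw [← heu]; group
    have hw : m * a * m⁻¹ ∈ A := L.setting.conj_mem hm ha
    have hwd : (m * a * m⁻¹) * d * (m * a * m⁻¹)⁻¹ = d⁻¹ := by
      show (m * a * m⁻¹) * (m * e * m⁻¹) * (m * a * m⁻¹)⁻¹ = (m * e * m⁻¹)⁻¹
      rw [show (m * a * m⁻¹) * (m * e * m⁻¹) * (m * a * m⁻¹)⁻¹ = m * (a * e * a⁻¹) * m⁻¹ by group, hea]
      group
    have hd1 : d ≠ 1 := fun h => he1 (conj_eq_one_iff.1 h)
    have hdu : d * u ≠ u * d := fun h => by
      refine ne_of_inverted L (hodd' d hdD) hd1 hwd ?_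
      have hab1 : u * a ≠ 1 := fun h' => hua (by
        rw [eq_inv_of_mul_eq_one_left h', inv_eq_of_mul_eq_one_right (L.setting.sq ha)])
      have h2 : Commute a d := mul_inv_eq_iff_eq_mul.1 hda
      rcases L.setting.eq_or_eq_or_eq hu ha (A.mul_mem hu ha) hu1 ha1 hab1 hua
        (fun h' => hu1 (mul_eq_right.1 h'.symm)) (fun h' => ha1 (mul_eq_left.1 h'.symm)) hw
        (fun h' => ha1 (conj_eq_one_iff.1 h')) with e' | e' | e' <;> rw [e']
      exacts [h.symm, h2.eq, ((show Commute u d from h.symm).mul_left h2).eq]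
    have hed : Commute e d := by
      set c := e * d * e⁻¹ * d⁻¹ with hc
      have hcD : c ∈ D := mul_mem (mul_mem (mul_mem heD hdD) (inv_mem heD)) (inv_mem hdD)
      have hcZ : c ∈ Z := ⟨hcD, mem_centralizer_iff.2 fun y hy => (hD2 e heD d hdD y hy).symm⟩
      have h1 : a * c * a⁻¹ = c := conj_eq_self_of_commute (hZm a ha c hcZ)
      have h2 : a * c * a⁻¹ = c⁻¹ := by
        calc a * c * a⁻¹ = (a * e * a⁻¹) * (a * d * a⁻¹) * (a * e * a⁻¹)⁻¹ * (a * d * a⁻¹)⁻¹ := by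
              rw [hc]; group
          _ = e⁻¹ * c⁻¹ * e := by rw [hea, hda, hc]; group
          _ = c⁻¹ := by
            rw [mul_assoc, (show Commute c e from hD2 e heD d hdD e heD).inv_left.eq, inv_mul_cancel_left]
      have hsq : c * c = 1 := by
        nth_rw 2 [show c = c⁻¹ from h1.symm.trans h2]
        exact mul_inv_cancel c
      have hc1 : c = 1 := orderOf_eq_one_iff.1 (Nat.eq_one_of_dvd_coprimes
        (Nat.coprime_two_right.2 (hodd' c hcD)) dvd_rfl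
        (orderOf_dvd_of_pow_eq_one (by rw [pow_two]; exact hsq)))
      exact mul_inv_eq_iff_eq_mul.1 (mul_inv_eq_one.1 hc1)
    refine build u hu z e d hz.1 heD hdD hz1 (fun he => ?_) (mem_centralizer_iff.1 hz.2 e heD).symm
      (mem_centralizer_iff.1 hz.2 d hdD).symm hed (hzA u hu).symm heu hdu
    obtain ⟨i, rfl⟩ := he
    exact ne_of_inverted L (hodd' _ heD) he1 hea ((show Commute a z from hzA a ha).zpow_right i).eq

/-- No mixed class. -/
theorem false (hp2 : p ≠ 2) (hse : ¬ ∃ H : Subgroup G, Cfsg.IsStronglyEmbedded H) : False := by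
  have hp : p.Prime := Fact.out
  haveI := L.simple
  obtain ⟨u, hu, hu1, B, E, hBE, hEX, hE, hBc, hEc, hBu⟩ := hX.exists_rank_three L hp2
  have hns : ¬ Group.IsSolvable G := GWKlein.not_isSolvable_of_simple (by
    by_contra hab
    push Not at hab
    exact L.setting.not_comm ⟨⟨hab⟩⟩)
  obtain ⟨M, hM, hXM, hNM, hF⟩ := exists_overgroup_simple_full L.simple hns
    (L.setting.pStableSections hp2) hp2 (Mixed.pGood L hp2 hX) hX.max.1.1 hEX hE hEc.ge
  obtain ⟨-, hB⟩ := hF E (hEX.trans hXM) hE hEc.ge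
  haveI := L.cent_solvable u hu hu1
  have hCM : centralizer ({u} : Set G) ≤ M :=
    (hB B hBE hBc).2 _ HallHigman.isPConstrained_of_isSolvable hBu
  refine hse (se_of_fused L hM hu hu1 hCM fun z hz hz1 => ?_)
  obtain ⟨m, -, hmX, hmu⟩ := hX.fused L hp hp2 hu hu1 hz hz1
  exact ⟨m, hNM hmX, hmu⟩

end Mixed

end Local

end Cfsg.Agent.Goldschmidt.ThreeInv.Primes
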