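import Cfsg.Agent.EqLemmas
import Cfsg.Agent.Lib.Goldschmidt.ThreeInv.Primes.Mixed
import Cfsg.Agent.Lib.GWKlein.General.TypesBase
import Cfsg.Agent.Lib.Cores.Fitting
import Cfsg.Agent.Lib.Solvable.Fitting

/-!
# Three involutions, section 1: `O(C(a)) = T a ⋊ O(C(A))` (owner: helper87)

* `Unmixed` : every maximal invariant `p`-subgroup, `p` odd, is centralised by some involution of `A`
* `dichotomy` : an invariant Sylow subgroup of `O(C(a))` is centralised or inverted
* `inverted_commute` : the inverted elements of `O(C(a))` commute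
* `torus`, `torusData` : section 1 from `Unmixed`
-/

set_option autoImplicit false
set_option linter.style.haveILetI false
set_option linter.unusedSectionVars false

namespace Cfsg.Agent.Goldschmidt.ThreeInv.Primes

open Subgroup GWKlein
open scoped Pointwise

universe u

variable {G : Type u} [Group G]

/-- Every maximal invariant `p`-subgroup is centralised by an involution of `A`. -/
def Unmixed [Finite G] (S : Sylow 2 G) (A : Subgroup G) : Prop :=
  ∀ (p : ℕ) (Z : Subgroup G), p.Prime → p ≠ 2 → MaxP S p Z →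
    ∃ v ∈ A, v ≠ 1 ∧ Z ≤ centralizer ({v} : Set G)

/-- Inverted by the involutions of `A` other than `a`. -/
def IsInv (A : Subgroup G) (a x : G) : Prop := ∀ b ∈ A, b ≠ 1 → b ≠ a → b * x * b⁻¹ = x⁻¹

/-- The torus `T a`: generated by the inverted elements of `O(C(a))`. -/
def torus (A : Subgroup G) (a : G) : Subgroup G :=
  closure {x | x ∈ oddPart (centralizer ({a} : Set G)) ∧ IsInv A a x}

/-- An element of odd order commutes with `y` if its square does. -/
theorem commute_of_sq_commute {x y : G} (hodd : Odd (orderOf x)) (h : Commute (x * x) y) : Commute x y := by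
  obtain ⟨k, hk⟩ := hodd
  have e : x = (x * x) ^ (k + 1) := by
    rw [← pow_two, ← pow_mul, show 2 * (k + 1) = orderOf x + 1 by omega, pow_succ, pow_orderOf_eq_one,
      one_mul]
  rw [e]
  exact h.pow_left _

variable [Finite G] {S : Sylow 2 G} {A : Subgroup G} (L : OddLocal S A)
include L

theorem exists_other {a : G} (ha : a ∈ A) (ha1 : a ≠ 1) : ∃ b ∈ A, b ≠ 1 ∧ b ≠ a := by
  haveI := L.simple
  obtain ⟨n, hn, hne⟩ := L.setting.exists_moving ha ha1
  exact ⟨_, L.setting.conj_mem hn ha, fun e => ha1 (conj_eq_one_iff.1 e), hne⟩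

theorem eq_mul_of_ne {a b z : G} (ha : a ∈ A) (ha1 : a ≠ 1) (hb : b ∈ A) (hb1 : b ≠ 1) (hab : a ≠ b)
    (hz : z ∈ A) : z = 1 ∨ z = a ∨ z = b ∨ z = a * b := by
  rcases eq_or_ne z 1 with e | hz1
  · exact Or.inl e
  have hab1 : a * b ≠ 1 := fun e => hab (by
    rw [eq_inv_of_mul_eq_one_left e, inv_eq_of_mul_eq_one_right (L.setting.sq hb)])
  rcases L.setting.eq_or_eq_or_eq ha hb (A.mul_mem ha hb) ha1 hb1 hab1 hab
    (fun e => ha1 (mul_eq_right.1 e.symm)) (fun e => hb1 (mul_eq_left.1 e.symm)) hz hz1 with e | e | e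
  exacts [Or.inr (Or.inl e), Or.inr (Or.inr (Or.inl e)), Or.inr (Or.inr (Or.inr e))]

theorem mem_cent_A_of_two {a b x : G} (ha : a ∈ A) (ha1 : a ≠ 1) (hb : b ∈ A) (hb1 : b ≠ 1) (hab : a ≠ b)
    (h1 : x * a = a * x) (h2 : x * b = b * x) : x ∈ centralizer (A : Set G) :=
  mem_centralizer_iff.2 fun z hz => by
    rcases eq_mul_of_ne L ha ha1 hb hb1 hab hz with rfl | rfl | rfl | rfl
    · simp
    · exact h1.symm
    · exact h2.symm
    · exact ((show Commute a x from h1.symm).mul_left h2.symm).eq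

theorem isInv_of_one {a b x : G} (ha : a ∈ A) (ha1 : a ≠ 1) (hb : b ∈ A) (hb1 : b ≠ 1) (hab : a ≠ b)
    (h1 : x * a = a * x) (h2 : b * x * b⁻¹ = x⁻¹) : IsInv A a x := fun z hz hz1 hza => by
  rcases eq_mul_of_ne L ha ha1 hb hb1 hab hz with rfl | rfl | rfl | rfl
  · exact absurd rfl hz1
  · exact absurd rfl hza
  · exact h2
  · rw [show a * b * x * (a * b)⁻¹ = a * (b * x * b⁻¹) * a⁻¹ by group, h2,
      conj_eq_self_of_commute ((show Commute a x from h1.symm).inv_right).eq]

theorem dichotomy (U : Unmixed S A) {p : ℕ} (hp : p.Prime) (hp2 : p ≠ 2) {a : G} (ha : a ∈ A) (ha1 : a ≠ 1)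
    {P : Subgroup G} (hP : InvP S p P) (hPO : P ≤ oddPart (centralizer ({a} : Set G))) :
    P ≤ centralizer (A : Set G) ∨
      ∀ b ∈ A, b ≠ 1 → b ≠ a → (∀ x ∈ P, b * x * b⁻¹ = x⁻¹) ∧ ∀ x ∈ P, x * b = b * x → x = 1 := by
  by_cases hPA : P ≤ centralizer (A : Set G)
  · exact Or.inl hPA
  refine Or.inr fun b hb hb1 hba => ?_
  obtain ⟨Z, hZ, hPZ⟩ := exists_maxP_ge hP
  obtain ⟨v, hv, hv1, hZv⟩ := U p Z hp hp2 hZ
  have hPa : P ≤ centralizer ({a} : Set G) := hPO.trans (oddPart_le _)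
  have hva : v = a := by
    by_contra hne
    exact hPA fun x hx => mem_cent_A_of_two L ha ha1 hv hv1 (Ne.symm hne)
      (mem_centralizer_singleton_iff.1 (hPa hx)) (mem_centralizer_singleton_iff.1 (hZv (hPZ hx)))
  subst hva
  have hfix : ∀ x ∈ P, x * b = b * x → x = 1 := by
    intro x hx hxb
    by_contra hx1
    obtain ⟨n, hn, hnb⟩ := exists_move L ha ha1 hb hb1
    have hnZ : (MulAut.conj n • Z : Subgroup G) ≤ centralizer ({b} : Set G) := fun z hz => by
      rw [Coprime.mem_conj] at hz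
      refine mem_centralizer_singleton_iff.2 ?_
      rw [← hnb]
      calc z * (n * v * n⁻¹) = n * (n⁻¹ * z * n * v) * n⁻¹ := by group
        _ = n * (v * (n⁻¹ * z * n)) * n⁻¹ := by rw [mem_centralizer_singleton_iff.1 (hZv hz)]
        _ = n * v * n⁻¹ * z := by group
    obtain ⟨c, hc, hcZ⟩ := exists_conj_of_fixed L hp hp2 (hZ.conj_normalizer hn) hZ hb hb1
      (fun e => hx1 (by
        have h1 : n * x * n⁻¹ ∈ (MulAut.conj n • Z : Subgroup G) ⊓ centralizer ({b} : Set G) :=
          ⟨conj_smul_mem (hPZ hx), hnZ (conj_smul_mem (hPZ hx))⟩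
        rw [e] at h1
        exact conj_eq_one_iff.1 (mem_bot.1 h1)))
      (fun e => hx1 (mem_bot.1 (e ▸ ⟨hPZ hx, mem_centralizer_singleton_iff.2 hxb⟩ : x ∈ (⊥ : Subgroup G))))
    refine hPA fun y hy => mem_cent_A_of_two L ha ha1 hb hb1 (Ne.symm hba)
      (mem_centralizer_singleton_iff.1 (hPa hy)) ?_
    have h1 : y ∈ (MulAut.conj c • (MulAut.conj n • Z) : Subgroup G) := by rw [hcZ]; exact hPZ hy
    rw [Coprime.mem_conj] at h1
    have h2 := mem_centralizer_singleton_iff.1 (hnZ h1)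
    have hcb : c * b = b * c := (mem_centralizer_iff.1 hc b (A_le_S L hb)).symm
    calc y * b = c * (c⁻¹ * y * c * b) * c⁻¹ := by
          rw [show c * (c⁻¹ * y * c * b) * c⁻¹ = y * (c * b) * c⁻¹ by group, hcb]; group
      _ = c * (b * (c⁻¹ * y * c)) * c⁻¹ := by rw [h2]
      _ = b * y := by rw [show c * (b * (c⁻¹ * y * c)) * c⁻¹ = (c * b) * c⁻¹ * y by group, hcb]; group
  refine ⟨fun x hx => ?_, hfix⟩
  obtain ⟨c, hc, e, he, hbc, hbe, hxe, -⟩ := exists_split (odd_card_of_isPGroup hp hp2 hP.1) (L.setting.sq hb)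
    (fun z hz => (mem_normalizer_iff.1 (hP.2 (A_le_S L hb)) z).1 hz) hx
  rw [hxe, hfix c hc (mul_inv_eq_iff_eq_mul.1 hbc).symm, one_mul, hbe]

/-- An invariant Sylow subgroup of `O(C(a))` over an invariant `p`-subgroup. -/
theorem exists_sylow_core {p : ℕ} (hp : p.Prime) {a : G} (ha : a ∈ A) {N : Subgroup G}
    (hN : InvP S p N) (hNO : N ≤ oddPart (centralizer ({a} : Set G))) :
    ∃ P, InvP S p P ∧ N ≤ P ∧ P ≤ oddPart (centralizer ({a} : Set G)) ∧
      Nat.card ↥P = p ^ (Nat.card ↥(oddPart (centralizer ({a} : Set G)))).factorization p := by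
  haveI := Fact.mk hp
  obtain ⟨P, hNP, hPO, hPn, hPc⟩ := Coprime.exists_invariant_card
    ((S_le_cent L ha).trans (le_normalizer_oddPart _)) (coprime_sylow_two (odd_card_oddPart _))
    (Or.inl (isSolvable_sylow_two S)) p hNO hN.1 hN.2
  exact ⟨P, ⟨Coprime.isPGroup_of_card hPc, hPn⟩, hNP, hPO, hPc⟩

theorem inverted_commute (U : Unmixed S A) {a : G} (ha : a ∈ A) (ha1 : a ≠ 1) {x y : G}
    (hx : x ∈ oddPart (centralizer ({a} : Set G))) (hxi : IsInv A a x)
    (hy : y ∈ oddPart (centralizer ({a} : Set G))) (hyi : IsInv A a y) : Commute x y := by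
  set O := oddPart (centralizer ({a} : Set G))
  have hOodd : Odd (Nat.card ↥O) := odd_card_oddPart _
  haveI : Group.IsSolvable ↥O := S0205.result hOodd
  have key : ∀ z ∈ O, IsInv A a z → ∀ hz : z ∈ O,
      (⟨z, hz⟩ : ↥O) ∈ centralizer (Cfsg.fittingSubgroup ↥O : Set ↥O) := by
    intro z _ hzi hz
    rw [Subgroup.mem_centralizer_iff]
    intro w hw
    have hle : Cfsg.fittingSubgroup ↥O ≤ centralizer ({⟨z, hz⟩} : Set ↥O) := by
      rw [Cores.fittingSubgroup_eq_iSup_pCore]
      refine iSup_le fun q => ?_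
      haveI := Fact.mk q.2
      set N := Cfsg.pCore (q : ℕ) ↥O
      rcases eq_or_ne (q : ℕ) 2 with e2 | hq2
      · have h1 : Nat.card ↥N = 1 := by
          obtain ⟨k, hk⟩ := (Cores.isPGroup_pCore (q : ℕ) ↥O).exists_card_eq
          rcases k with _ | k
          · simpa using hk
          · exfalso
            have h2 : Nat.card ↥N ∣ Nat.card ↥O := Subgroup.card_subgroup_dvd_card N
            rw [hk] at h2
            exact Nat.not_even_iff_odd.2 hOodd (even_iff_two_dvd.2
              ((e2 ▸ dvd_pow_self (q : ℕ) k.succ_ne_zero : (2 : ℕ) ∣ (q : ℕ) ^ (k + 1)).trans h2))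
        rw [Subgroup.eq_bot_of_card_eq N h1]; exact bot_le
      haveI : N.Characteristic := Cores.pCore_characteristic _ _
      have hNn : (S : Subgroup G) ≤ normalizer (N.map O.subtype : Set G) :=
        ((S_le_cent L ha).trans (le_normalizer_oddPart _)).trans (Cores.normalizer_le_normalizer_map N)
      obtain ⟨P, hP, hNP, hPO, -⟩ := exists_sylow_core L q.2 ha
        ⟨(Cores.isPGroup_pCore _ _).map O.subtype, hNn⟩ (map_subtype_le N)
      intro w hw
      refine mem_centralizer_singleton_iff.2 (Subtype.ext ?_)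
      obtain ⟨b, hb, hb1, hba⟩ := exists_other L ha ha1
      have hzb := hzi b hb hb1 hba
      have hwP : (w : G) ∈ P := hNP (mem_map_of_mem O.subtype hw)
      set u := z * (w : G) * z⁻¹ with hu
      have huP : u ∈ P := hNP ⟨⟨z, hz⟩ * w * ⟨z, hz⟩⁻¹,
        (Cores.pCore_normal (q : ℕ) ↥O).conj_mem w hw _, rfl⟩
      have hsq : Commute (z * z) (w : G) := by
        rcases dichotomy L U q.2 hq2 ha ha1 hP hPO with h | h
        · have hb' : ∀ t ∈ P, b * t * b⁻¹ = t := fun t ht =>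
            conj_eq_self_of_commute (mem_centralizer_iff.1 (h ht) b hb)
          have h1 : z⁻¹ * (w : G) * z = z * w * z⁻¹ := by
            have h2 := hb' u huP
            rw [hu, show b * (z * (w : G) * z⁻¹) * b⁻¹ = (b * z * b⁻¹) * (b * w * b⁻¹) * (b * z * b⁻¹)⁻¹ by group,
              hzb, hb' _ hwP, inv_inv] at h2
            exact h2
          calc z * z * (w : G) = z * (z * w * z⁻¹) * z := by group
            _ = z * (z⁻¹ * (w : G) * z) * z := by rw [h1]
            _ = (w : G) * (z * z) := by group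
        · have h2 := (h b hb hb1 hba).1 u huP
          rw [hu, show b * (z * (w : G) * z⁻¹) * b⁻¹ = (b * z * b⁻¹) * (b * w * b⁻¹) * (b * z * b⁻¹)⁻¹ by group,
            hzb, (h b hb hb1 hba).1 _ hwP, inv_inv] at h2
          have h1 : z⁻¹ * (w : G) * z = z * w * z⁻¹ := by
            have := congrArg (·⁻¹) h2
            simpa [mul_assoc] using this
          calc z * z * (w : G) = z * (z * w * z⁻¹) * z := by group
            _ = z * (z⁻¹ * (w : G) * z) * z := by rw [h1]
            _ = (w : G) * (z * z) := by group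
      exact (commute_of_sq_commute (hOodd.of_dvd_nat (orderOf_dvd_natCard O hz)) hsq).eq.symm
    exact mem_centralizer_singleton_iff.1 (hle hw)
  have h1 := Solvable.centralizer_fitting_le ↥O (key x hx hxi hx)
  have h2 := key y hy hyi hy
  exact (congrArg Subtype.val (mem_centralizer_iff.1 h2 _ h1) : x * y = y * x)

theorem mem_torus (U : Unmixed S A) {a : G} (ha : a ∈ A) (ha1 : a ≠ 1) {x : G} :
    x ∈ torus A a ↔ x ∈ oddPart (centralizer ({a} : Set G)) ∧ IsInv A a x := by
  refine ⟨fun hx => ?_, fun hx => subset_closure hx⟩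
  induction hx using closure_induction with
  | mem x hx => exact hx
  | one => exact ⟨one_mem _, fun b _ _ _ => by simp⟩
  | mul x y _ _ hx hy =>
    refine ⟨mul_mem hx.1 hy.1, fun b hb hb1 hba => ?_⟩
    rw [show b * (x * y) * b⁻¹ = (b * x * b⁻¹) * (b * y * b⁻¹) by group, hx.2 b hb hb1 hba, hy.2 b hb hb1 hba,
      (inverted_commute L U ha ha1 hx.1 hx.2 hy.1 hy.2).inv_inv.eq, mul_inv_rev]
  | inv x _ hx =>
    exact ⟨inv_mem hx.1, fun b hb hb1 hba => by rw [← conj_inv, hx.2 b hb hb1 hba]⟩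

theorem eq_one_of_torus_fixed (U : Unmixed S A) {a : G} (ha : a ∈ A) (ha1 : a ≠ 1) {x : G}
    (hx : x ∈ torus A a) (hxA : x ∈ centralizer (A : Set G)) : x = 1 := by
  obtain ⟨hxO, hxi⟩ := (mem_torus L U ha ha1).1 hx
  obtain ⟨b, hb, hb1, hba⟩ := exists_other L ha ha1
  by_contra h1
  have h := hxi b hb hb1 hba
  have h2 : b * x = x * b := mem_centralizer_iff.1 hxA b hb
  rw [h2, mul_inv_cancel_right] at h
  have hsq : x * x = 1 := by nth_rw 2 [h]; exact mul_inv_cancel x
  exact h1 (orderOf_eq_one_iff.1 (Nat.eq_one_of_dvd_coprimes (Nat.coprime_two_right.2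
    ((odd_card_oddPart (centralizer ({a} : Set G))).of_dvd_nat (orderOf_dvd_natCard _ hxO))) dvd_rfl
    (orderOf_dvd_of_pow_eq_one (by rw [pow_two]; exact hsq))))

theorem conj_mem_torus (U : Unmixed S A) {n : G} (hn : n ∈ normalizer (A : Set G)) {a : G} (ha : a ∈ A)
    (ha1 : a ≠ 1) {x : G} (hx : x ∈ torus A a) : n * x * n⁻¹ ∈ torus A (n * a * n⁻¹) := by
  obtain ⟨hxO, hxi⟩ := (mem_torus L U ha ha1).1 hx
  refine subset_closure ⟨?_, fun b hb hb1 hba => ?_⟩
  · rw [← map_conj_centralizer_singleton n a, oddPart_map]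
    exact ⟨x, hxO, rfl⟩
  · have hb' : n⁻¹ * b * n ∈ A := by simpa using (mem_normalizer_iff.1 (inv_mem hn) b).1 hb
    have h := hxi _ hb' (fun e => hb1 (by
        calc b = n * (n⁻¹ * b * n) * n⁻¹ := by group
          _ = 1 := by rw [e]; group))
      (fun e => hba (by rw [← e]; group))
    calc b * (n * x * n⁻¹) * b⁻¹ = n * (n⁻¹ * b * n * x * (n⁻¹ * b * n)⁻¹) * n⁻¹ := by group
      _ = (n * x * n⁻¹)⁻¹ := by rw [h]; group

theorem centralizer_le_sup {a : G} (ha : a ∈ A) (ha1 : a ≠ 1) :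
    centralizer ({a} : Set G) ≤ torus A a ⊔ centralizer (A : Set G) := by
  intro g hg
  obtain ⟨ρ, hρ, n, -, hnA, rfl⟩ := exists_factor L ha ha1 hg
  obtain ⟨b, hb, hb1, hba⟩ := exists_other L ha ha1
  obtain ⟨c, hc, e, he, hbc, hbe, rfl, -⟩ := exists_split (odd_card_oddPart (centralizer ({a} : Set G)))
    (L.setting.sq hb) (fun z hz => (mem_normalizer_iff.1
      (le_normalizer_oddPart _ (A_le_cent L ha hb)) z).1 hz) hρ
  refine mul_mem (mul_mem (mem_sup_right ?_) (mem_sup_left (subset_closure ⟨he, ?_⟩))) (mem_sup_right hnA)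
  · exact mem_cent_A_of_two L ha ha1 hb hb1 hba.symm
      (mem_centralizer_singleton_iff.1 (oddPart_le _ hc)) (mul_inv_eq_iff_eq_mul.1 hbc).symm
  · exact isInv_of_one L ha ha1 hb hb1 hba.symm (mem_centralizer_singleton_iff.1 (oddPart_le _ he)) hbe

theorem normalizer_A_ne_top : normalizer (A : Set G) ≠ ⊤ := fun e => by
  haveI := L.simple
  rcases (normalizer_eq_top_iff.1 e).eq_bot_or_eq_top with h | h
  · have := L.setting.card
    rw [h, card_bot] at this
    omega
  · refine L.setting.not_comm ⟨⟨fun x y => ?_⟩⟩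
    exact L.setting.commute (h ▸ mem_top x) (A_le_S L (h ▸ mem_top y))

/-- Section 1 once no class is mixed. -/
theorem torusData (U : Unmixed S A) (hse : ¬ ∃ H : Subgroup G, Cfsg.IsStronglyEmbedded H) :
    TorusData S A (torus A) := by
  haveI := L.simple
  have hmem : ∀ a ∈ A, a ≠ 1 → ∀ x : G, x ∈ torus A a →
      x ∈ oddPart (centralizer ({a} : Set G)) ∧ IsInv A a x := fun a ha ha1 x => (mem_torus L U ha ha1).1
  have hCA : ∀ a ∈ A, centralizer (A : Set G) ≤ normalizer (A : Set G) := fun _ _ =>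
    centralizer_le_normalizer _
  have hnorm : ∀ a ∈ A, a ≠ 1 → centralizer ({a} : Set G) ≤ normalizer (torus A a : Set G) := by
    intro a ha ha1
    refine (centralizer_le_sup L ha ha1).trans (sup_le le_normalizer fun n hn => ?_)
    refine Coprime.mem_normalizer_of_forall fun x hx => ?_
    have h := conj_mem_torus L U (hCA a ha hn) ha ha1 hx
    rwa [conj_eq_self_of_commute (mem_centralizer_iff.1 hn a ha).symm] at h
  have hle : ∀ a ∈ A, a ≠ 1 → torus A a ≤ centralizer ({a} : Set G) := fun a ha ha1 x hx =>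
    oddPart_le _ (hmem a ha ha1 x hx).1
  refine
    { le := hle
      normal := hnorm
      ne := fun a ha ha1 e => ?_
      odd := fun a ha ha1 => (odd_card_oddPart (centralizer ({a} : Set G))).of_dvd_nat
        (card_dvd_of_le fun x hx => (hmem a ha ha1 x hx).1)
      comm := fun a ha ha1 => ⟨⟨fun x y => Subtype.ext (inverted_commute L U ha ha1
        (hmem a ha ha1 x x.2).1 (hmem a ha ha1 x x.2).2 (hmem a ha ha1 y y.2).1 (hmem a ha ha1 y y.2).2).eq⟩⟩
      inverts := fun a ha ha1 b hb hb1 hba t ht => (hmem a ha ha1 t ht).2 b hb hb1 hba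
      gen := fun a ha ha1 => centralizer_le_sup L ha ha1
      coprime := fun a ha ha1 => ?_
      equiv := fun n hn a ha ha1 t ht => conj_mem_torus L U hn ha ha1 ht
      types := fun p P hp hp2 hP hSP => ?_ }
  · refine hse (se_of_fused L (normalizer_A_ne_top L) ha ha1 ?_ fun z hz hz1 => ?_)
    · refine (centralizer_le_sup L ha ha1).trans ?_
      rw [e, bot_sup_eq]
      exact hCA a ha
    · obtain ⟨g, hg, hga⟩ := exists_move L ha ha1 hz hz1
      refine ⟨g, Coprime.mem_normalizer_of_forall fun x hx => L.setting.conj_mem hg hx, hga⟩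
  · refine Nat.coprime_of_dvd fun q hq hqT hqA => ?_
    haveI := Fact.mk hq
    have hTodd : Odd (Nat.card ↥(torus A a)) := (odd_card_oddPart (centralizer ({a} : Set G))).of_dvd_nat
      (card_dvd_of_le fun x hx => (hmem a ha ha1 x hx).1)
    have hq2 : q ≠ 2 := fun e => Nat.not_even_iff_odd.2 hTodd (even_iff_two_dvd.2 (e ▸ hqT))
    set O := oddPart (centralizer ({a} : Set G))
    have hcoreO : coreA A ≤ O := (coreA_eq L ha ha1).le.trans inf_le_left
    obtain ⟨P₀, -, hP₀A, hP₀n, hP₀c⟩ := Coprime.exists_invariant_card (S_le_normalizer_coreA L)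
      (coprime_sylow_two (odd_card_oddPart (centralizer (A : Set G)))) (Or.inl (isSolvable_sylow_two S)) q
      (bot_le : (⊥ : Subgroup G) ≤ coreA A) IsPGroup.of_bot
      (fun s _ => by rw [normalizer_eq_top]; exact mem_top s)
    have hP₀1 : P₀ ≠ ⊥ := fun e => by
      rw [e, card_bot] at hP₀c
      have h1 := hq.factorization_pos_of_dvd Nat.card_pos.ne' hqA
      rcases Nat.pow_eq_one.1 hP₀c.symm with h | h
      · exact hq.ne_one h
      · omega
    obtain ⟨P, hP, hP₀P, hPO, hPc⟩ := exists_sylow_core L hq ha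
      ⟨Coprime.isPGroup_of_card hP₀c, hP₀n⟩ (hP₀A.trans hcoreO)
    rcases dichotomy L U hq hq2 ha ha1 hP hPO with hPA | h
    · obtain ⟨x, hx⟩ := exists_prime_orderOf_dvd_card' (G := ↥(torus A a)) q hqT
      have hxO : (x : G) ∈ O := (hmem a ha ha1 x x.2).1
      obtain ⟨Q, hQ⟩ := (IsPGroup.of_card (n := 1) (G := ↥(zpowers (⟨x, hxO⟩ : ↥O))) (p := q) (by
        rw [Nat.card_zpowers, pow_one, Subgroup.orderOf_mk, orderOf_coe, hx])).exists_le_sylow
      obtain ⟨P', hP'⟩ := Coprime.exists_sylow_map_eq hPO hPc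
      obtain ⟨g, hg⟩ := MulAction.exists_smul_eq ↥O Q P'
      have h1 : ((g * ⟨x, hxO⟩ * g⁻¹ : ↥O) : G) ∈ P := by
        rw [← hP']
        refine ⟨g * ⟨x, hxO⟩ * g⁻¹, ?_, rfl⟩
        rw [← hg, Sylow.coe_subgroup_smul]
        exact conj_smul_mem (hQ (mem_zpowers _))
      have h2 : (g : G) * x * (g : G)⁻¹ ∈ torus A a :=
        (mem_normalizer_iff.1 (hnorm a ha ha1 (oddPart_le _ g.2)) _).1 x.2
      have h3 := eq_one_of_torus_fixed L U ha ha1 h2 (hPA h1)
      have hx1 : x = 1 := Subtype.ext (conj_eq_one_iff.1 h3)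
      exact hq.ne_one (by rw [← hx, hx1, orderOf_one])
    · obtain ⟨b, hb, hb1, hba⟩ := exists_other L ha ha1
      refine hP₀1 ((Subgroup.eq_bot_iff_forall _).2 fun x hx => (h b hb hb1 hba).2 x (hP₀P hx) ?_)
      exact (mem_centralizer_iff.1 (map_subtype_le _ (hP₀A hx)) b hb).symm
  · obtain ⟨Z, hZ, hPZ⟩ := exists_maxP_ge (S := S) ⟨hP, hSP⟩
    obtain ⟨v, hv, hv1, hZv⟩ := U p Z hp hp2 hZ
    have hZO := le_core L hv hv1 hZv (odd_card_of_isPGroup hp hp2 hZ.1.1) hZ.1.2
    rcases dichotomy L U hp hp2 hv hv1 hZ.1 hZO with h | h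
    · exact Or.inl (hPZ.trans h)
    · exact Or.inr ⟨v, hv, hv1, fun x hx =>
        subset_closure ⟨hZO (hPZ hx), fun b hb hb1 hbv => (h b hb hb1 hbv).1 x (hPZ hx)⟩⟩

end Cfsg.Agent.Goldschmidt.ThreeInv.Primes
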